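import Groth.Agent.AgPol.K250.Fine
import Groth.Agent.AgPol.K691.ZCorr

/-!
# From core families to the frozen moduli problem, on all test schemes

* `QLoc`: polarisations over locally Noetherian schemes are fppf-locally attached to relatively ample modules;
* `main`: a fine moduli scheme of core families (for locally Noetherian tests) is a fine moduli scheme of the moduli
  problem of the frozen statement S14321, for all test schemes.
-/

set_option autoImplicit false
universe u

open CategoryTheory Limits MonoidalCategory CartesianMonoidalCategory AlgebraicGeometry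
open scoped MonObj

namespace K250.AgLim.FineFam

open Groth.Agent.Grpsch.PicGrp K117.Ag K691.ZFam K691.ZCorr

/-- Polarisations are fppf-locally attached to relatively ample modules. -/
def QLoc : Prop :=
  ∀ {S : Scheme.{u}} [IsLocallyNoetherian S] {g : ℕ} (A At : Over S) [GrpObj A] [IsCommMonObj A] [GrpObj At]
    [IsCommMonObj At] (_ : AgPol.IsAbSch A g) (φ : AgPol.DualMap A At)
    (_ : AbDual.IsDualAV Scheme.fppfPrecoverage A At φ) (lam : A ⟶ At) (_ : AgPol.IsPolarization A At φ lam),
      ∃ (T : Scheme.{u}) (k : T ⟶ S), Surjective k ∧ Flat k ∧ LocallyOfFinitePresentation k ∧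
        ∃ L : (Red.bc k A).left.Modules, PicF.IsInvertible L ∧ RelAmple.IsRelAmple (Red.bc k A).hom L ∧
          AgPol.IsLambda (Red.bc k A) (Red.bc k At) (AgPol.bcDual k A At φ) L ((Over.pullback k).map lam)

variable {S : Scheme.{u}} {g d n : ℕ}

theorem qf_of_ln (hq : QLoc.{u}) {T : Over S} [IsLocallyNoetherian T.left] {x : AgPol.Fam T g}
    (hx : AgPol.Fam.ok g d n T x) : QF T x := by
  let _ := x.grp
  let _ := x.grpt
  obtain ⟨hA, hc, hct, hD, hpol, hdeg, hlev⟩ := hx
  exact hq x.X x.Xt hA x.φ hD x.lam hpol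

/-- Fine moduli for all tests: from core families to families. -/
theorem of_top (Q : ∀ T : Over S, AgPol.Fam T g → Prop)
    (hQ : ∀ (T : Over S) (x : AgPol.Fam T g), Q T x ↔ QF T x) {M : Over S} {ξ : Core M g}
    (h : ModFun.IsUnivFamily ⊤ (CoreP S g d n) M ξ) {x : AgPol.Fam M g} (hx : IsCoreOf x ξ)
    (hok : AgPol.Fam.ok g d n M x) (hqx : QF M x) :
    ModFun.IsUnivFamily ⊤ ((AgPol.Agdn S g d n).restrict Q) M x := by
  refine ⟨⟨hok, (hQ _ _).2 hqx⟩, fun T y _ hy => ?_⟩
  obtain ⟨z, hz, hzok⟩ := K533.FamCore.exists_core T y hy.1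
  have key : ∀ a : T ⟶ M, AgPol.Fam.r T (x.pull a) y ↔ Core.r T (ξ.pull a) z := fun a =>
    K533.FamCore.r_iff T (x.pull a) y (ξ.pull a) z (K533.FamCore.pull_ok a x hok) hy.1
      (K533.FamCore.pull_core a x ξ hok hx) hz
  obtain ⟨a, ha, hu⟩ := h.2 T z trivial hzok
  exact ⟨a, (key a).2 ha, fun b hb => hu b ((key b).1 hb)⟩

/-- **Fine moduli schemes of core families are fine moduli schemes of the frozen moduli problem.** -/
theorem main (hq : QLoc.{u}) [IsAffine S] [IsNoetherian S] (hg : 1 ≤ g) (hn : 1 ≤ n)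
    (hA : K540.Ag.Node.AutTriv.{u} g d n) (Q : ∀ T : Over S, AgPol.Fam T g → Prop)
    (hQ : ∀ (T : Over S) (x : AgPol.Fam T g), Q T x ↔ QF T x) (M : Over S) [LocallyOfFiniteType M.hom]
    (ξ : Core M g) (h : ModFun.IsUnivFamily (LN S) (CoreP S g d n) M ξ) :
    ∃ x : AgPol.Fam M g, IsCoreOf x ξ ∧ AgPol.Fam.ok g d n M x ∧ QF M x ∧
      ModFun.IsUnivFamily ⊤ ((AgPol.Agdn S g d n).restrict Q) M x := by
  have hM : IsLocallyNoetherian M.left := LocallyOfFiniteType.isLocallyNoetherian M.hom
  have h' := Fine.main hg hn hA M ξ h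
  obtain ⟨x, hx, hok⟩ := K533.FamCore.exists_fam M ξ h.1
  have hqx : QF M x := qf_of_ln hq hok
  exact ⟨x, hx, hok, hqx, of_top Q hQ h' hx hok hqx⟩

end K250.AgLim.FineFam
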