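import Groth.Agent.AgPol.K250.Obj

/-!
# Isomorphisms of core families over a limit come from a stage

* `exists_iso_stage` : an isomorphism over the limit respecting classes and sections comes from one at a stage;
* `core_iso` : for core families;
* `core_aut` : automorphisms of admissible core families over the limit are trivial.
-/

set_option autoImplicit false
set_option backward.isDefEq.respectTransparency false
set_option backward.defeqAttrib.useBackward true
universe u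

open CategoryTheory Limits MonoidalCategory CartesianMonoidalCategory AlgebraicGeometry
open scoped MonObj

namespace K250.AgLim

open K533.PolBC K620.GMod K210.LimHom Groth.Agent.Ega43.LimitDescend Groth.Agent Groth.Agent.Sga3.H515
  Groth.Agent.Grpsch.PicGrp K540.Ag K117.Ag

noncomputable section

section gen

variable {N B B' : Scheme.{u}} {t : N ⟶ B} {t' : N ⟶ B'} {G H : Over N} [GrpObj G] [GrpObj H]

theorem mm_lift {M : Mdl t G} {M' : Mdl t H} {u : G ⟶ H} {u' : M.X ⟶ M'.X} (h : IsLift M M' u u') :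
    mm M ≫ u'.left = u.left ≫ mm M' := by
  have e1 : pullback.fst M.X.hom t ≫ u'.left = ((Over.pullback t).map u').left ≫ pullback.fst M'.X.hom t :=
    (ActBC.pullback_map_left_fst t u').symm
  have e2 : M.e.inv ≫ (Over.pullback t).map u' = u ≫ M'.e.inv := by
    rw [h.map_eq, Iso.inv_hom_id_assoc]
  rw [mm, mm, Category.assoc, e1, ← Category.assoc, ← Category.assoc, ← Over.comp_left, ← Over.comp_left, e2]

/-- Sections over the stage of a dominant cone are determined at the limit. -/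
theorem sec_ext [IsSchemeTheoreticallyDominant t] [QuasiCompact t] {Y : Over B} [IsSeparated Y.hom]
    {a b : 𝟙_ (Over B) ⟶ Y} (h : t ≫ a.left = t ≫ b.left) : a = b := by
  ext
  exact Groth.Agent.Models.WeilPts.ext_of_schDominant Y.hom ((Over.w a).trans (Over.w b).symm) t h

/-- The comparison of a section with its base change. -/
theorem sec_mm (M : Mdl t G) (b : B' ⟶ B) (h : t' ≫ b = t) (σ : 𝟙_ (Over N) ⟶ G) (s : 𝟙_ (Over B) ⟶ M.X)
    (hs : σ.left ≫ mm M = t ≫ s.left) : σ.left ≫ mm (M.bc b h) = t' ≫ (secBc b s).left := by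
  have e1 : mm (M.bc b h) ≫ pullback.fst M.X.hom b = mm M := mm_bc M b h
  have e2 : mm (M.bc b h) ≫ pullback.snd M.X.hom b = G.hom ≫ t' := mm_hom (M.bc b h)
  have hσ : σ.left ≫ G.hom = 𝟙 _ := Over.w σ
  have e3 : (secBc b s).left ≫ pullback.fst M.X.hom b = b ≫ s.left := pullback.lift_fst _ _ _
  have e4 : (secBc b s).left ≫ pullback.snd M.X.hom b = 𝟙 _ := pullback.lift_snd _ _ _
  apply pullback.hom_ext
  · refine (Category.assoc _ _ _).trans ((congrArg (σ.left ≫ ·) e1).trans (hs.trans ?_))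
    refine Eq.trans ?_ ((Category.assoc _ _ _).trans (congrArg (t' ≫ ·) e3)).symm
    rw [← Category.assoc, h]
  · refine (Category.assoc _ _ _).trans ((congrArg (σ.left ≫ ·) e2).trans ?_)
    refine Eq.trans ?_ ((Category.assoc _ _ _).trans (congrArg (t' ≫ ·) e4)).symm
    refine (Category.assoc _ _ _).symm.trans ((congrArg (· ≫ t') hσ).trans ?_)
    exact (Category.id_comp _).trans (Category.comp_id _).symm

end gen

section stage

variable {I : Type u} [SmallCategory I] {D : I ⥤ Scheme.{u}} {c : Cone D}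
variable [IsCofiltered I] (hc : IsLimit c) [∀ (i i' : I) (f : i ⟶ i'), IsAffineHom (D.map f)]
    [∀ i, CompactSpace (D.obj i)] [∀ i, QuasiSeparatedSpace (D.obj i)]
    [∀ i, IsSchemeTheoreticallyDominant (c.π.app i)] [∀ i, QuasiCompact (c.π.app i)]

include hc

/-- **Isomorphisms come from a stage.** -/
theorem exists_iso_stage {κ : Type} {A A' : Over c.pt} [GrpObj A] [GrpObj A'] {i : I} (M : Mdl (c.π.app i) A)
    (M' : Mdl (c.π.app i) A') (x : Pic M.X.left) (x' : Pic M'.X.left) (s : κ → (𝟙_ (Over (D.obj i)) ⟶ M.X))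
    (s' : κ → (𝟙_ (Over (D.obj i)) ⟶ M'.X)) (σ : κ → (𝟙_ (Over c.pt) ⟶ A)) (σ' : κ → (𝟙_ (Over c.pt) ⟶ A'))
    (hs : ∀ k, (σ k).left ≫ mm M = c.π.app i ≫ (s k).left)
    (hs' : ∀ k, (σ' k).left ≫ mm M' = c.π.app i ≫ (s' k).left) (e : A ≅ A') [IsMonHom e.hom]
    (hcl : pull e.hom.left (pull (mm M') x') = pull (mm M) x) (hσ : ∀ k, σ k ≫ e.hom = σ' k) :
    ∃ (j : I) (f : j ⟶ i) (l : I) (f₂ : l ⟶ j) (e' : ((M.mv f).mv f₂).X ≅ ((M'.mv f).mv f₂).X),
      IsMonHom e'.hom ∧ IsLift ((M.mv f).mv f₂) ((M'.mv f).mv f₂) e.hom e'.hom ∧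
      pull e'.hom.left (pull (pullback.fst (M'.mv f).X.hom (D.map f₂)) (pull (pullback.fst M'.X.hom (D.map f)) x')) =
        pull (pullback.fst (M.mv f).X.hom (D.map f₂)) (pull (pullback.fst M.X.hom (D.map f)) x) ∧
      ∀ k, secBc (D.map f₂) (secBc (D.map f) (s k)) ≫ e'.hom = secBc (D.map f₂) (secBc (D.map f) (s' k)) := by
  obtain ⟨j, f, e₁, he₁⟩ := exists_iso hc M M' e
  have h1 : pull (mm (M.mv f)) (pull e₁.hom.left (pull (pullback.fst M'.X.hom (D.map f)) x')) =
      pull (mm (M.mv f)) (pull (pullback.fst M.X.hom (D.map f)) x) := by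
    refine (pull_comp _ _ _).symm.trans ?_
    refine (congrArg (fun m => pull m (pull (pullback.fst M'.X.hom (D.map f)) x')) (mm_lift he₁)).trans ?_
    refine (pull_comp _ _ _).trans ?_
    refine (congrArg (pull e.hom.left) (pull_mm_bc M' (D.map f) (c.w f) x')).trans (hcl.trans ?_)
    exact (pull_mm_bc M (D.map f) (c.w f) x).symm
  obtain ⟨l, f₂, h2⟩ := exists_cls_eq hc (M.mv f) _ _ h1
  have he₂ : IsLift ((M.mv f).mv f₂) ((M'.mv f).mv f₂) e.hom ((Over.pullback (D.map f₂)).map e₁.hom) :=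
    he₁.bc (D.map f₂) (c.w f₂)
  refine ⟨j, f, l, f₂, (Over.pullback (D.map f₂)).mapIso e₁, he₂.isMonHom, he₂, ?_, fun k => ?_⟩
  · refine Eq.trans ?_ h2
    refine (pull_comp _ _ _).symm.trans (Eq.trans ?_ (pull_comp _ _ _))
    refine congrArg (fun m => pull m (pull (pullback.fst M'.X.hom (D.map f)) x')) ?_
    exact ActBC.pullback_map_left_fst (D.map f₂) e₁.hom
  · have q : IsSeparated ((M'.mv f).mv f₂).X.hom := ((M'.mv f).mv f₂).sep
    refine sec_ext (t := c.π.app l) (Y := ((M'.mv f).mv f₂).X) ?_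
    have a1 := sec_mm (M.mv f) (D.map f₂) (c.w f₂) (σ k) (secBc (D.map f) (s k))
      (sec_mm M (D.map f) (c.w f) (σ k) (s k) (hs k))
    have a2 := sec_mm (M'.mv f) (D.map f₂) (c.w f₂) (σ' k) (secBc (D.map f) (s' k))
      (sec_mm M' (D.map f) (c.w f) (σ' k) (s' k) (hs' k))
    refine Eq.trans ?_ a2
    rw [Over.comp_left, ← Category.assoc]
    refine (congrArg (· ≫ ((Over.pullback (D.map f₂)).map e₁.hom).left) a1.symm).trans ?_
    refine (Category.assoc _ _ _).trans ((congrArg ((σ k).left ≫ ·) (mm_lift he₂)).trans ?_)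
    rw [← Category.assoc, ← Over.comp_left, hσ]

/-- A group as a model of its base change. -/
def mdlOf {N B : Scheme.{u}} (t : N ⟶ B) (X : Over B) [GrpObj X] [IsCommMonObj X] [Flat X.hom] [IsSeparated X.hom]
    [LocallyOfFinitePresentation X.hom] [QuasiCompact X.hom] : Mdl t (Red.bc t X) :=
  { X := X, e := Iso.refl _, mon := inferInstanceAs (IsMonHom (𝟙 (Red.bc t X))) }

omit hc in
theorem mm_mdlOf {N B : Scheme.{u}} (t : N ⟶ B) (X : Over B) [GrpObj X] [IsCommMonObj X] [Flat X.hom]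
    [IsSeparated X.hom] [LocallyOfFinitePresentation X.hom] [QuasiCompact X.hom] :
    mm (mdlOf t X) = pullback.fst X.hom t := Category.id_comp _

theorem exists_iso_raw {κ : Type} {i : I} (X Y : Over (D.obj i)) [GrpObj X] [GrpObj Y] {g : ℕ}
    (hX : AgPol.IsAbSch X g) (hY : AgPol.IsAbSch Y g) (hX' : IsCommMonObj X) (hY' : IsCommMonObj Y) (x : Pic X.left)
    (y : Pic Y.left) (s : κ → (𝟙_ (Over (D.obj i)) ⟶ X)) (s' : κ → (𝟙_ (Over (D.obj i)) ⟶ Y))
    (e : Red.bc (c.π.app i) X ≅ Red.bc (c.π.app i) Y) (he : IsMonHom e.hom)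
    (hcl : pull e.hom.left (pull (pullback.fst Y.hom (c.π.app i)) y) = pull (pullback.fst X.hom (c.π.app i)) x)
    (hs : ∀ k, secBc (c.π.app i) (s k) ≫ e.hom = secBc (c.π.app i) (s' k)) :
    ∃ (j : I) (f : j ⟶ i) (l : I) (f₂ : l ⟶ j)
      (e' : Red.bc (D.map f₂) (Red.bc (D.map f) X) ≅ Red.bc (D.map f₂) (Red.bc (D.map f) Y)), IsMonHom e'.hom ∧
      pull e'.hom.left (pull (pullback.fst (Red.bc (D.map f) Y).hom (D.map f₂)) (pull (pullback.fst Y.hom (D.map f)) y)) =
        pull (pullback.fst (Red.bc (D.map f) X).hom (D.map f₂)) (pull (pullback.fst X.hom (D.map f)) x) ∧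
      ∀ k, secBc (D.map f₂) (secBc (D.map f) (s k)) ≫ e'.hom = secBc (D.map f₂) (secBc (D.map f) (s' k)) := by
  have _ := hX.smooth
  have _ := hX.proper
  have _ := hY.smooth
  have _ := hY.proper
  obtain ⟨j, f, l, f₂, e', q1, -, q2, q3⟩ := exists_iso_stage hc (mdlOf (c.π.app i) X) (mdlOf (c.π.app i) Y) x y s s'
    (fun k => secBc (c.π.app i) (s k)) (fun k => secBc (c.π.app i) (s' k))
    (fun k => by
      rw [mm_mdlOf]
      exact pullback.lift_fst _ _ _)
    (fun k => by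
      rw [mm_mdlOf]
      exact pullback.lift_fst _ _ _) e (by
      rw [mm_mdlOf, mm_mdlOf]
      exact hcl) hs
  exact ⟨j, f, l, f₂, e', q1, q2, q3⟩

end stage

section core

variable {S : Scheme.{u}} {I : Type u} [SmallCategory I] [IsCofiltered I] {D : I ⥤ Over S} {c : Cone D}
  (hc : IsLimit ((Over.forget S).mapCone c)) (hD : ∀ i, IsAffine (D.obj i).left)
  (hN : ∀ i, IsNoetherian (D.obj i).left) (hdom : ∀ i, IsSchemeTheoreticallyDominant (c.π.app i).left)
  (hT : IsAffine c.pt.left)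

include hc hD hdom hT

/-- **Isomorphisms of core families over the limit come from a stage.** -/
theorem core_iso {g d n : ℕ} {i : I} (z w : Core (D.obj i) g) (hz : Core.ok g d n (D.obj i) z)
    (hw : Core.ok g d n (D.obj i) w) (h : Core.r c.pt (z.pull (c.π.app i)) (w.pull (c.π.app i))) :
    ∃ (j : I) (f : j ⟶ i), Core.r (D.obj j) (z.pull (D.map f)) (w.pull (D.map f)) := by
  have h1 : ∀ {i j : I} (f : i ⟶ j), IsAffineHom ((D ⋙ Over.forget S).map f) := aff_map hD
  have h2 := cpt_obj hD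
  have h3 := qs_obj hD
  have h5 : ∀ i, IsSchemeTheoreticallyDominant (((Over.forget S).mapCone c).π.app i) := hdom
  have h6 := qc_π hD hT
  obtain ⟨e, he, hcl, hsec⟩ := h
  let X : Over ((D ⋙ Over.forget S).obj i) := z.X
  let Y : Over ((D ⋙ Over.forget S).obj i) := w.X
  let _ : GrpObj X := z.grp
  let _ : GrpObj Y := w.grp
  obtain ⟨j, f, l, f₂, e', q1, q2, q3⟩ := exists_iso_raw (D := D ⋙ Over.forget S) (c := (Over.forget S).mapCone c) hc
    (i := i) X Y hz.ab hw.ab hz.comm hw.comm z.c w.c z.σ w.σ e he hcl hsec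
  have key : Core.r (D.obj l) ((z.pull (D.map f)).pull (D.map f₂)) ((w.pull (D.map f)).pull (D.map f₂)) :=
    ⟨e', q1, q2, q3⟩
  refine ⟨l, f₂ ≫ f, ?_⟩
  rw [D.map_comp]
  exact r_trans (r_pull_comp (D.map f) (D.map f₂) z) (r_trans key (r_symm (r_pull_comp (D.map f) (D.map f₂) w)))

include hN

/-- **Automorphisms of admissible core families over the limit are trivial.** -/
theorem core_aut {g d n : ℕ} (hA : K540.Ag.Node.AutTriv.{u} g d n) (hg : 1 ≤ g) (hn : 1 ≤ n) (z : Core c.pt g)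
    (hz : Core.ok g d n c.pt z) (e : z.X ≅ z.X) (he : IsMonHom e.hom) (hcl : pull e.hom.left z.c = z.c)
    (hs : ∀ k, z.σ k ≫ e.hom = z.σ k) : e.hom = 𝟙 z.X := by
  have h1 : ∀ {i j : I} (f : i ⟶ j), IsAffineHom ((D ⋙ Over.forget S).map f) := aff_map hD
  have h2 := cpt_obj hD
  have h3 := qs_obj hD
  have h4 := ln_obj hN
  have h5 : ∀ i, IsSchemeTheoreticallyDominant (((Over.forget S).mapCone c).π.app i) := hdom
  have h6 := qc_π hD hT
  let A : Over ((Over.forget S).mapCone c).pt := z.X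
  let _ : GrpObj A := z.grp
  have hcomm : IsCommMonObj A := hz.comm
  obtain ⟨i, M, c', s, a1, a2, a3, a4, a5, a6⟩ := exists_obj (c := (Over.forget S).mapCone c) hc hg hn A hz.ab z.c
    hz.pol z.σ hz.level
  let e₀ : A ≅ A := e
  have he₀ : IsMonHom e₀.hom := he
  obtain ⟨j, f, l, f₂, e', q1, q2, q3, q4⟩ := exists_iso_stage hc M M c' c' s s z.σ z.σ a6 a6 e₀ (by
    rw [a5]
    exact hcl) hs
  let w : Core (D.obj i) g := ⟨M.X, M.grp, c', s⟩
  have hw : Core.ok g d n (D.obj i) w := ⟨a1, M.comm, a2, a3, a4⟩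
  have hw' := pull_ok (D.map f₂) _ (pull_ok (D.map f) w hw)
  have q5 : e'.hom = 𝟙 _ := hA (D.obj l) ((w.pull (D.map f)).pull (D.map f₂)) (ln_obj hN l) hw' e' q1 q3 q4
  have q6 : (Over.pullback (((Over.forget S).mapCone c).π.app l)).map e'.hom ≫ ((M.mv f).mv f₂).e.hom =
    ((M.mv f).mv f₂).e.hom ≫ e₀.hom := q2
  rw [q5, CategoryTheory.Functor.map_id] at q6
  have q7 : e₀.hom = 𝟙 A := by
    rw [← cancel_epi ((M.mv f).mv f₂).e.hom, ← q6, Category.comp_id]
    exact Category.id_comp _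
  exact q7

end core

end

end K250.AgLim
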