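import Groth.Agent.AgPol.K250.Sys
import Groth.Agent.AgPol.K250.Iso

/-!
# Fine moduli of core families: from locally Noetherian test schemes to all test schemes

* `aut_all` : rigidity over all test schemes;
* `sepAll` : isomorphisms of admissible core families glue, over all test schemes;
* `Fine.main` : a universal family for locally Noetherian test schemes is one for all test schemes.
-/

set_option autoImplicit false
universe u

open CategoryTheory Limits MonoidalCategory CartesianMonoidalCategory AlgebraicGeometry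
open scoped MonObj

namespace K250.AgLim

open Groth.Agent Groth.Agent.Grpsch.PicGrp K540.Ag K117.Ag

noncomputable section

section aut

variable {g d n : ℕ} (hA : K540.Ag.Node.AutTriv.{u} g d n) (hg : 1 ≤ g) (hn : 1 ≤ n)

include hA hg hn

theorem aut_affine₀ {S : Scheme.{u}} [IsAffine S] [IsNoetherian S] (T : Over S) [hT : IsAffine T.left] (x : Core T g)
    (hx : Core.ok g d n T x) (e : x.X ≅ x.X) (he : IsMonHom e.hom) (hcl : pull e.hom.left x.c = x.c)
    (hs : ∀ i, x.σ i ≫ e.hom = x.σ i) : e.hom = 𝟙 x.X := by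
  obtain ⟨I, _, _, D, c, ⟨hc⟩, hD, hN, hdom, hpt⟩ := Sys.exists_system T
  subst hpt
  exact core_aut hc hD hN hdom hT hA hg hn x hx e he hcl hs

instance : IsNoetherian SZ.{u} := by
  have : IsNoetherianRing (ULift.{u} ℤ) := isNoetherianRing_of_ringEquiv ℤ ULift.ringEquiv.symm
  infer_instance

/-- Rigidity over affine schemes. -/
theorem aut_affine {S : Scheme.{u}} (T : Over S) (hT : IsAffine T.left) (x : Core T g)
    (hx : Core.ok g d n T x) (e : x.X ≅ x.X) (he : IsMonHom e.hom) (hcl : pull e.hom.left x.c = x.c)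
    (hs : ∀ i, x.σ i ≫ e.hom = x.σ i) : e.hom = 𝟙 x.X := by
  let T₁ : Over SZ.{u} := Over.mk (specULiftZIsTerminal.from T.left)
  have hT₁ : IsAffine T₁.left := hT
  let x₁ : Core T₁ g := ⟨x.X, x.grp, x.c, x.σ⟩
  exact aut_affine₀ hA hg hn T₁ x₁ ⟨hx.ab, hx.comm, hx.rig, hx.pol, hx.level⟩ e he hcl hs

/-- **Rigidity over all schemes.** -/
theorem aut_all {S : Scheme.{u}} (T : Over S) (x : Core T g) (hx : Core.ok g d n T x) (e : x.X ≅ x.X)
    (he : IsMonHom e.hom) (hcl : pull e.hom.left x.c = x.c) (hs : ∀ i, x.σ i ≫ e.hom = x.σ i) : e.hom = 𝟙 x.X := by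
  ext1
  have hcov : ∀ t : T.left, ∃ U : T.left.affineOpens, t ∈ Set.range U.1.ι := by
    intro t
    obtain ⟨U, hU, htU, -⟩ := exists_isAffineOpen_mem_and_subset (x := t) (U := (⊤ : T.left.Opens)) trivial
    exact ⟨⟨U, hU⟩, by
      rw [Scheme.Opens.range_ι]
      exact htU⟩
  refine hom_ext_cov (fun U : T.left.affineOpens => pullback x.X.hom U.1.ι) (fun U => pullback.fst x.X.hom U.1.ι)
    (fun U => inferInstance) (cov_pb hcov x.X.hom) fun U => ?_
  let k : resO T U.1 ⟶ T := resH T U.1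
  have hk : IsAffine (resO T U.1).left := U.2
  have h1 := aut_affine hA hg hn (resO T U.1) hk (x.pull k) (pull_ok k x hx) ((Over.pullback k.left).mapIso e)
    (by
      change IsMonHom ((Over.pullback k.left).map e.hom)
      infer_instance) (by
      change pull ((Over.pullback k.left).map e.hom).left (pull (pullback.fst x.X.hom k.left) x.c) =
        pull (pullback.fst x.X.hom k.left) x.c
      refine (pull_comp _ _ _).symm.trans ?_
      refine (congrArg (fun m => pull m x.c) (ActBC.pullback_map_left_fst k.left e.hom)).trans ?_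
      rw [pull_comp, hcl]) (fun i => by
      change (x.pull k).σ i ≫ (Over.pullback k.left).map e.hom = (x.pull k).σ i
      apply K210.LimHom.bc_hom_ext
      have e1 : ((x.pull k).σ i).left ≫ pullback.fst x.X.hom k.left = k.left ≫ (x.σ i).left := pullback.lift_fst _ _ _
      have e2 : (x.σ i).left ≫ e.hom.left = (x.σ i).left := by rw [← Over.comp_left, hs]
      refine Eq.trans (b := (((x.pull k).σ i).left ≫ ((Over.pullback k.left).map e.hom).left) ≫
        pullback.fst x.X.hom k.left) rfl ?_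
      refine (Category.assoc _ _ _).trans ((congrArg (((x.pull k).σ i).left ≫ ·)
        (ActBC.pullback_map_left_fst k.left e.hom)).trans ?_)
      refine (Category.assoc _ _ _).symm.trans ((congrArg (· ≫ e.hom.left) e1).trans ?_)
      refine (Category.assoc _ _ _).trans ((congrArg (k.left ≫ ·) e2).trans e1.symm))
  have h2 := ActBC.pullback_map_left_fst k.left e.hom
  have h3 : (Over.pullback k.left).map e.hom = 𝟙 _ := h1
  rw [h3] at h2
  refine h2.symm.trans ?_
  exact (Category.id_comp _).trans (Category.comp_id _).symm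

end aut

section sep

variable {g d n : ℕ} {S : Scheme.{u}} {T T' T'' : Over S}

/-- Rigidity over all schemes, as a hypothesis. -/
def Aut (g d n : ℕ) : Prop :=
  ∀ {S : Scheme.{u}} (T : Over S) (x : Core T g), Core.ok g d n T x → ∀ e : x.X ≅ x.X, IsMonHom e.hom →
    pull e.hom.left x.c = x.c → (∀ i, x.σ i ≫ e.hom = x.σ i) → e.hom = 𝟙 x.X

/-- Uniqueness of cartesian morphisms. -/
theorem cm_uniqAll (hA : Aut.{u} g d n) {f : T'.left ⟶ T.left} {x' : Core T' g} {x : Core T g}
    (hx : Core.ok g d n T' x') {m m' : x'.X.left ⟶ x.X.left} (h : CM f x' x m) (h' : CM f x' x m') :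
    m = m' := by
  obtain ⟨l, h1, h2⟩ := h'.lift (f' := 𝟙 T'.left) (cast_base h (Category.id_comp f).symm)
  obtain ⟨e, rfl, he⟩ := h2.gm.exists_iso
  have h3 := hA T' x' hx e he h2.cls fun i => by
    ext1
    exact (h2.sec i).trans (Category.id_comp _)
  rw [← h1, h3]
  exact Category.id_comp _

/-- Cartesian morphisms glue. -/
theorem cm_glueAll (hA : Aut.{u} g d n) {f : T'.left ⟶ T.left} {x' : Core T' g} {x : Core T g}
    (hx' : Core.ok g d n T' x') (h2 : pull (η[x.X] : 𝟙_ (Over T.left) ⟶ x.X).left x.c = 1)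
    (h : ∀ t : T'.left, ∃ U : T'.left.Opens, t ∈ U ∧ ∃ m, CM (U.ι ≫ f) (x'.pull (resH T' U)) x m) :
    ∃ m, CM f x' x m := by
  choose U hU m hm using h
  have hc : ∀ t : T'.left, ∃ k : T'.left, t ∈ Set.range (U k).ι := fun t => ⟨t, by
    rw [Scheme.Opens.range_ι]
    exact hU t⟩
  obtain ⟨z, hz⟩ := exists_glue (Z := x'.X.left) (Y := x.X.left) (fun t => pullback x'.X.hom (U t).ι)
    (fun t => pullback.fst x'.X.hom (U t).ι) (fun t => inferInstance) (cov_pb hc x'.X.hom) m (by
      intro i j W p q hpq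
      -- restrictions to the intersection
      have key : ∀ (V : T'.left.Opens) (i : T'.left) (hV : V ≤ U i) (W : Scheme.{u})
          (p : W ⟶ pullback x'.X.hom (U i).ι) (s : W ⟶ pullback x'.X.hom V.ι),
          s ≫ pullback.fst _ _ = p ≫ pullback.fst _ _ →
          ∃ n, CM (V.ι ≫ f) (x'.pull (resH T' V)) x n ∧ s ≫ n = p ≫ m i := by
        intro V i hV W p s hs
        have e : (resH T' V).left = (resL T' hV).left ≫ (resH T' (U i)).left := (T'.left.homOfLE_ι hV).symm
        obtain ⟨l, hl1, hl2⟩ := (CM.pull (resH T' (U i)) x').lift (f' := (resL T' hV).left)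
          (cast_base (CM.pull (resH T' V) x') e)
        refine ⟨l ≫ m i, cast_base (hl2.comp (hm i)) ?_, ?_⟩
        · exact (Category.assoc _ _ _).symm.trans (congrArg (· ≫ f) e.symm)
        · refine (Category.assoc _ _ _).symm.trans (congrArg (· ≫ m i) ?_)
          have : Mono (pullback.fst x'.X.hom (U i).ι) := inferInstance
          refine (cancel_mono (pullback.fst x'.X.hom (U i).ι)).1 ?_
          exact (Category.assoc _ _ _).trans ((congrArg (s ≫ ·) hl1).trans hs)
      have hr : ∃ s : W ⟶ pullback x'.X.hom (U i ⊓ U j).ι, s ≫ pullback.fst _ _ = p ≫ pullback.fst _ _ := by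
        have hsub : Set.range (p ≫ pullback.fst _ _ ≫ x'.X.hom) ⊆ Set.range (U i ⊓ U j).ι := by
          rintro _ ⟨w, rfl⟩
          rw [Scheme.Opens.range_ι]
          constructor
          · have : (p ≫ pullback.fst _ _ ≫ x'.X.hom) w ∈ Set.range (U i).ι := by
              rw [pullback.condition]
              exact ⟨(p ≫ pullback.snd _ _) w, by simp only [Scheme.Hom.comp_apply]⟩
            rwa [Scheme.Opens.range_ι] at this
          · have : (p ≫ pullback.fst _ _ ≫ x'.X.hom) w ∈ Set.range (U j).ι := by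
              rw [← Category.assoc, hpq, Category.assoc, pullback.condition]
              exact ⟨(q ≫ pullback.snd _ _) w, by simp only [Scheme.Hom.comp_apply]⟩
            rwa [Scheme.Opens.range_ι] at this
        exact ⟨pullback.lift (p ≫ pullback.fst _ _) (IsOpenImmersion.lift _ _ hsub) (by
          rw [IsOpenImmersion.lift_fac, Category.assoc]), pullback.lift_fst _ _ _⟩
      obtain ⟨s, hs⟩ := hr
      obtain ⟨n1, hn1, hn1'⟩ := key (U i ⊓ U j) i inf_le_left W p s hs
      obtain ⟨n2, hn2, hn2'⟩ := key (U i ⊓ U j) j inf_le_right W q s (hs.trans hpq)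
      rw [← hn1', ← hn2']
      rw [cm_uniqAll hA (pull_ok (resH T' (U i ⊓ U j)) x' hx') hn1 hn2])
  have i1 := hx'.ab.proper
  have i2 := hx'.ab.smooth
  have i4 := hx'.ab.geomConnected
  have i3 : GeometricallyIntegral x'.X.hom := K814.AbBasic.geometricallyIntegral x'.X
  refine ⟨z, cm_of_local (V := fun t : T'.left => resO T' (U t)) (v := fun t => resH T' (U t)) hx'.rig h2
    (fun t => inferInstanceAs (IsOpenImmersion (U t).ι)) hc fun t => ?_⟩
  have e : pullback.fst x'.X.hom (resH T' (U t)).left ≫ z = m t := hz t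
  have h1 : CM ((resH T' (U t)).left ≫ f) (x'.pull (resH T' (U t))) x (m t) := hm t
  exact Eq.mp (congrArg (fun z => CM ((resH T' (U t)).left ≫ f) (x'.pull (resH T' (U t))) x z) e.symm) h1

/-- **Isomorphisms glue.** -/
theorem sepAll (hA : Aut.{u} g d n) (T : Over S) (x y : Core T g) (hx : Core.ok g d n T x) (hy : Core.ok g d n T y)
    (h : ∀ t : T.left, ∃ U : T.left.Opens, t ∈ U ∧ Core.r _ (x.pull (resH T U)) (y.pull (resH T U))) :
    Core.r T x y := by
  rw [r_iff]
  refine cm_glueAll hA hx hy.rig fun t => ?_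
  obtain ⟨U, hU, hr⟩ := h t
  obtain ⟨m, hm⟩ := CM.of_r hr
  exact ⟨U, hU, m, cast_base hm (Category.comp_id _).symm⟩

end sep

section fine

variable {g d n : ℕ} {S : Scheme.{u}} {M : Over S} {ξ : Core M g}

/-- Pull-backs of a family along morphisms with isomorphic pull-backs. -/
theorem r_comp {T T' : Over S} (p : T' ⟶ T) {k : T ⟶ M} {z : Core T g} (h : Core.r T (ξ.pull k) z) :
    Core.r T' (ξ.pull (p ≫ k)) (z.pull p) :=
  r_trans (r_pull_comp k p ξ) (r_pull p h)

section affine

variable [IsAffine S] [IsNoetherian S] [LocallyOfFinitePresentation M.hom]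
  (hU : ModFun.IsUnivFamily (LN S) (CoreP S g d n) M ξ)

include hU

/-- Existence over affine schemes. -/
theorem exists_affine (hg : 1 ≤ g) (hn : 1 ≤ n) (T : Over S) [IsAffine T.left] (z : Core T g)
    (hz : Core.ok g d n T z) : ∃ k : T ⟶ M, Core.r T (ξ.pull k) z := by
  obtain ⟨I, _, _, D, c, ⟨hc⟩, hD, hN, hdom, hpt⟩ := Sys.exists_system T
  subst hpt
  obtain ⟨j, w, hw, m, hm⟩ := core_obj hc hD hN hdom ‹_› hg hn z hz
  obtain ⟨k, hk, -⟩ := hU.2 (D.obj j) w (ln_obj hN j) hw
  exact ⟨c.π.app j ≫ k, r_trans (r_comp (c.π.app j) hk) (r_symm (CM.r hm))⟩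

/-- Uniqueness over affine schemes. -/
theorem uniq_affine (T : Over S) [IsAffine T.left] (a b : T ⟶ M) (h : Core.r T (ξ.pull a) (ξ.pull b)) : a = b := by
  obtain ⟨I, _, _, D, c, ⟨hc⟩, hD, hN, hdom, hpt⟩ := Sys.exists_system T
  subst hpt
  obtain ⟨i₁, a₁, rfl⟩ := K828.LExt.exists_factor hc hD M a
  obtain ⟨i₂, b₂, rfl⟩ := K828.LExt.exists_factor hc hD M b
  obtain ⟨i, u, v, -⟩ := IsCofilteredOrEmpty.cone_objs i₁ i₂
  have ea : c.π.app i₁ ≫ a₁ = c.π.app i ≫ D.map u ≫ a₁ := by rw [← Category.assoc, c.w]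
  have eb : c.π.app i₂ ≫ b₂ = c.π.app i ≫ D.map v ≫ b₂ := by rw [← Category.assoc, c.w]
  rw [ea, eb] at h ⊢
  generalize D.map u ≫ a₁ = a₀ at h ⊢
  generalize D.map v ≫ b₂ = b₀ at h ⊢
  have oka : Core.ok g d n _ (ξ.pull a₀) := pull_ok a₀ ξ hU.1
  have okb : Core.ok g d n _ (ξ.pull b₀) := pull_ok b₀ ξ hU.1
  have h1 : Core.r c.pt ((ξ.pull a₀).pull (c.π.app i)) ((ξ.pull b₀).pull (c.π.app i)) :=
    r_trans (r_symm (r_pull_comp a₀ (c.π.app i) ξ)) (r_trans h (r_pull_comp b₀ (c.π.app i) ξ))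
  obtain ⟨j, f, h2⟩ := core_iso hc hD hdom ‹_› (ξ.pull a₀) (ξ.pull b₀) oka okb h1
  have h3 : Core.r (D.obj j) (ξ.pull (D.map f ≫ a₀)) (ξ.pull (D.map f ≫ b₀)) :=
    r_trans (r_pull_comp a₀ (D.map f) ξ) (r_trans h2 (r_symm (r_pull_comp b₀ (D.map f) ξ)))
  have h4 : D.map f ≫ a₀ = D.map f ≫ b₀ := by
    obtain ⟨k, -, hk⟩ := hU.2 (D.obj j) (ξ.pull (D.map f ≫ b₀)) (ln_obj hN j) (pull_ok _ ξ hU.1)
    exact (hk _ h3).trans (hk _ (r_refl _)).symm
  rw [← c.w f, Category.assoc, Category.assoc, h4]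

/-- Uniqueness over all schemes. -/
theorem uniq_all (T : Over S) (a b : T ⟶ M) (h : Core.r T (ξ.pull a) (ξ.pull b)) : a = b := by
  ext1
  refine hom_ext_loc fun t => ?_
  obtain ⟨V, hV, htV, -⟩ := exists_isAffineOpen_mem_and_subset (x := t) (U := (⊤ : T.left.Opens)) trivial
  refine ⟨V, htV, ?_⟩
  have hk : IsAffine (resO T V).left := hV
  have h1 : Core.r (resO T V) (ξ.pull (resH T V ≫ a)) (ξ.pull (resH T V ≫ b)) :=
    r_trans (r_pull_comp a (resH T V) ξ) (r_trans (r_pull _ h) (r_symm (r_pull_comp b (resH T V) ξ)))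
  exact congrArg CommaMorphism.left (uniq_affine hU (resO T V) _ _ h1)

end affine

namespace Fine

/-- **Fine moduli for locally Noetherian tests are fine moduli for all tests.** -/
theorem main [IsAffine S] [IsNoetherian S] (hg : 1 ≤ g) (hn : 1 ≤ n) (hA : K540.Ag.Node.AutTriv.{u} g d n)
    (M : Over S) [LocallyOfFiniteType M.hom] (ξ : Core M g)
    (h : ModFun.IsUnivFamily (LN S) (CoreP S g d n) M ξ) : ModFun.IsUnivFamily ⊤ (CoreP S g d n) M ξ := by
  have hlfp : LocallyOfFinitePresentation M.hom := inferInstance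
  have hAut : Aut.{u} g d n := fun T x hx e he h1 h2 => aut_all hA hg hn T x hx e he h1 h2
  refine ⟨h.1, fun T z _ hz => ?_⟩
  have key : ∀ t : T.left, ∃ (V : T.left.Opens) (k : resO T V ⟶ M), t ∈ V ∧
      Core.r (resO T V) (ξ.pull k) (z.pull (resH T V)) := by
    intro t
    obtain ⟨V, hV, htV, -⟩ := exists_isAffineOpen_mem_and_subset (x := t) (U := (⊤ : T.left.Opens)) trivial
    have hk : IsAffine (resO T V).left := hV
    obtain ⟨k, hk⟩ := exists_affine h hg hn (resO T V) (z.pull (resH T V)) (pull_ok _ z hz)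
    exact ⟨V, k, htV, hk⟩
  choose V k hV hk using key
  have hcov : ∀ t : T.left, ∃ s : T.left, t ∈ Set.range (V s).ι := fun t => ⟨t, by
    rw [Scheme.Opens.range_ι]
    exact hV t⟩
  obtain ⟨a, ha⟩ := exists_glue (Z := T.left) (Y := M.left) (fun t => (V t).toScheme) (fun t => (V t).ι)
    (fun t => inferInstance) hcov (fun t => (k t).left) (by
      intro i j W p q hpq
      let W' : Over S := Over.mk (p ≫ (resO T (V i)).hom)
      let p' : W' ⟶ resO T (V i) := Over.homMk p rfl
      let q' : W' ⟶ resO T (V j) := Over.homMk q (by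
        change q ≫ (V j).ι ≫ T.hom = p ≫ (V i).ι ≫ T.hom
        rw [← Category.assoc, ← hpq, Category.assoc])
      have e : p' ≫ resH T (V i) = q' ≫ resH T (V j) := by
        ext1
        exact hpq
      have h1 : Core.r W' (ξ.pull (p' ≫ k i)) (z.pull (p' ≫ resH T (V i))) :=
        r_trans (r_comp p' (hk i)) (r_symm (r_pull_comp _ _ z))
      have h2 : Core.r W' (ξ.pull (q' ≫ k j)) (z.pull (q' ≫ resH T (V j))) :=
        r_trans (r_comp q' (hk j)) (r_symm (r_pull_comp _ _ z))
      rw [← e] at h2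
      exact congrArg CommaMorphism.left (uniq_all h W' _ _ (r_trans h1 (r_symm h2))))
  let a' : T ⟶ M := Over.homMk a (by
    refine hom_ext_cov (fun t => (V t).toScheme) (fun t => (V t).ι) (fun t => inferInstance) hcov fun t => ?_
    rw [← Category.assoc, ha]
    exact Over.w (k t))
  have ha' : ∀ t, resH T (V t) ≫ a' = k t := fun t => by
    ext1
    exact ha t
  refine ⟨a', ?_, fun b hb => ?_⟩
  · refine sepAll hAut T _ _ (pull_ok a' ξ h.1) hz fun t => ⟨V t, hV t, ?_⟩
    have h1 := r_symm (r_pull_comp a' (resH T (V t)) ξ)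
    rw [ha'] at h1
    exact r_trans h1 (hk t)
  · refine uniq_all h T _ _ (r_trans hb (r_symm ?_))
    refine sepAll hAut T _ _ (pull_ok a' ξ h.1) hz fun t => ⟨V t, hV t, ?_⟩
    have h1 := r_symm (r_pull_comp a' (resH T (V t)) ξ)
    rw [ha'] at h1
    exact r_trans h1 (hk t)

end Fine

end fine

end

end K250.AgLim
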