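import Groth.Agent.AgPol.K250.Mod
import Groth.Agent.AgPol.K399.LevLoc
import Groth.Agent.AgPol.K841.LawLocal
import Groth.Agent.AgPol.K533.Amp

/-!
# Level structures over a limit come from a stage

* `exists_fac` : a morphism from the limit to a scheme of finite presentation over a stage factors;
* `exists_sec` : sections come from a stage;
* `exists_lev` : level structures come from a stage;
* `isRelAmple` : the class of a polarisation is relatively ample, any base.
-/

set_option autoImplicit false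
set_option backward.isDefEq.respectTransparency false
set_option backward.defeqAttrib.useBackward true
universe u

open CategoryTheory Limits MonoidalCategory CartesianMonoidalCategory AlgebraicGeometry
open scoped MonObj

namespace K250.AgLim

open K533.PolBC K620.GMod K210.LimHom Groth.Agent.Ega43.LimitDescend Groth.Agent Groth.Agent.Sga3.H515
  Groth.Agent.Grpsch.PicGrp K540.Ag K117.Ag

noncomputable section

section amp

/-- The class of a polarisation is relatively ample. -/
theorem isRelAmple {S : Scheme.{u}} (A : Over S) [GrpObj A] (g d : ℕ) (hA : AgPol.IsAbSch A g) (L : A.left.Modules)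
    (hL : PicF.IsInvertible L) (hP : IsPolCl A d (mk L hL)) : RelAmple.IsRelAmple A.hom L := by
  obtain ⟨At, _, _, φ, ξ, lam, hD, h1, h2, h3, hpol, hdeg, hc⟩ := hP
  have := hA.smooth
  have := hA.proper
  have := hA.geomConnected
  have hint : GeometricallyIntegral A.hom := K814.AbBasic.geometricallyIntegral A
  refine K533.GeomAmple.isRelAmple_of_geom A.hom L hL fun Ω _ _ t => ?_
  obtain ⟨M, hM, hlam⟩ := hpol.2 Ω t
  have i1 : IsProper (Red.bc t A).hom := inferInstanceAs (IsProper (pullback.snd A.hom t))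
  have i2 : GeometricallyIntegral (Red.bc t A).hom := inferInstanceAs (GeometricallyIntegral (pullback.snd A.hom t))
  refine K533.Amp.isAmple_of_cls (A := Red.bc t A) (Fdesc.LocGen.isInvertible_pullback (pullback.fst A.hom t) hL) hM ?_
  rw [← K533.Amp.cls_fibre hD h1 h2 h3 t lam hM.1 hlam, ← hc, pull_mk]

end amp

variable {I : Type u} [SmallCategory I] {D : I ⥤ Scheme.{u}} {c : Cone D}
variable [IsCofiltered I] (hc : IsLimit c) [∀ (i i' : I) (f : i ⟶ i'), IsAffineHom (D.map f)]
    [∀ i, CompactSpace (D.obj i)] [∀ i, QuasiSeparatedSpace (D.obj i)]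

include hc

/-- A morphism from the limit to a scheme of finite presentation over a stage factors through a stage. -/
theorem exists_fac {i : I} {Z : Scheme.{u}} (z : Z ⟶ D.obj i) [LocallyOfFinitePresentation z] (a : c.pt ⟶ Z)
    (ha : a ≫ z = c.π.app i) : ∃ (j : I) (f : j ⟶ i) (g : D.obj j ⟶ Z), c.π.app j ≫ g = a ∧ g ≫ z = D.map f := by
  let s : Over.forget i ⋙ D ⟶ (Functor.const (Over i)).obj (D.obj i) :=
    { app := fun j => D.map j.hom
      naturality := fun j k φ => by
        dsimp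
        rw [Category.comp_id, ← D.map_comp, Over.w] }
  obtain ⟨k, g, h1, h2⟩ := Scheme.exists_π_app_comp_eq_of_locallyOfFinitePresentation (Over.forget i ⋙ D) s z
    (overCone c i) (isLimitOverCone c hc i) a (by
      ext j : 2
      change c.π.app j.left ≫ D.map j.hom = a ≫ z
      rw [ha, c.w])
  exact ⟨k.left, k.hom, g, h1, h2⟩

/-- Sections come from a stage. -/
theorem exists_sec {κ : Type} [Finite κ] {A : Over c.pt} [GrpObj A] {i : I} (M : Mdl (c.π.app i) A)
    (σ : κ → (𝟙_ (Over c.pt) ⟶ A)) :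
    ∃ (j : I) (f : j ⟶ i) (s : κ → (𝟙_ (Over (D.obj j)) ⟶ (M.mv f).X)),
      ∀ k, (σ k).left ≫ mm (M.mv f) = c.π.app j ≫ (s k).left := by
  have hσ : ∀ k, (σ k).left ≫ A.hom = 𝟙 _ := fun k => Over.w (σ k)
  have h0 : ∀ k, ((σ k).left ≫ mm M) ≫ M.X.hom = c.π.app i := by
    intro k
    rw [Category.assoc, mm_hom, ← Category.assoc]
    exact (congrArg (· ≫ c.π.app i) (hσ k)).trans (Category.id_comp _)
  have h1 : ∀ k, ∃ (j : I) (f : j ⟶ i) (g : D.obj j ⟶ M.X.left), c.π.app j ≫ g = (σ k).left ≫ mm M ∧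
      g ≫ M.X.hom = D.map f := fun k => exists_fac hc M.X.hom _ (h0 k)
  choose j f g hg hg' using h1
  obtain ⟨l, e, e', he⟩ := IsCofiltered.wideCospan f
  have h2 : ∀ k, (D.map (e' k) ≫ g k) ≫ M.X.hom = 𝟙 _ ≫ D.map e := by
    intro k
    rw [Category.assoc, hg', ← D.map_comp, he, Category.id_comp]
  refine ⟨l, e, fun k => Over.homMk (pullback.lift (D.map (e' k) ≫ g k) (𝟙 _) (h2 k)) (pullback.lift_snd _ _ _),
    fun k => ?_⟩
  have e1 : mm (M.mv e) ≫ pullback.fst M.X.hom (D.map e) = mm M := mm_bc M (D.map e) (c.w e)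
  have e2 : mm (M.mv e) ≫ pullback.snd M.X.hom (D.map e) = A.hom ≫ c.π.app l := mm_hom (M.mv e)
  apply pullback.hom_ext
  · refine (Category.assoc _ _ _).trans ((congrArg ((σ k).left ≫ ·) e1).trans ?_)
    refine Eq.trans ?_ ((Category.assoc _ _ _).trans (congrArg (c.π.app l ≫ ·) (pullback.lift_fst _ _ (h2 k)))).symm
    rw [← Category.assoc, c.w, hg]
  · refine (Category.assoc _ _ _).trans ((congrArg ((σ k).left ≫ ·) e2).trans ?_)
    refine Eq.trans ?_ ((Category.assoc _ _ _).trans (congrArg (c.π.app l ≫ ·) (pullback.lift_snd _ _ (h2 k)))).symm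
    refine (Category.assoc _ _ _).symm.trans ((congrArg (· ≫ c.π.app l) (hσ k)).trans ?_)
    exact (Category.id_comp _).trans (Category.comp_id _).symm

/-- Level structures come from a stage. -/
theorem exists_lev {g n : ℕ} (hg : 1 ≤ g) (hn : 1 ≤ n) {A : Over c.pt} [GrpObj A] {i : I}
    [IsLocallyNoetherian (D.obj i)] (M : Mdl (c.π.app i) A) (hM : AgPol.IsAbSch M.X g)
    (σ : Fin (2 * g) → (𝟙_ (Over c.pt) ⟶ A)) (hσ : AgPol.IsLevelStr A g n σ)
    (s : Fin (2 * g) → (𝟙_ (Over (D.obj i)) ⟶ M.X)) (hs : ∀ k, (σ k).left ≫ mm M = c.π.app i ≫ (s k).left) :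
    ∃ (j : I) (f : j ⟶ i), AgPol.IsLevelStr (M.mv f).X g n (fun k => secBc (D.map f) (s k)) := by
  have p1 := hM.proper
  obtain ⟨Z, z, h1, h2, H⟩ := K399.LevMain.main_of M.X g n hn s fun Ω _ _ t => K399.LevLoc.card_iff M.X g n hg hn hM Ω t
  have h3 : LocallyOfFinitePresentation z := inferInstance
  have e1 : ∀ k, σ k ≫ M.e.inv = secBc (c.π.app i) (s k) := by
    intro k
    apply bc_hom_ext
    rw [Over.comp_left, Category.assoc]
    exact (hs k).trans (pullback.lift_fst _ _ _).symm
  have h0 : IsMonHom M.e.symm.hom := inferInstanceAs (IsMonHom M.e.inv)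
  have h4 := K841.LawLocal.levIso c.pt A (Red.bc (c.π.app i) M.X) g n M.e.symm σ hσ
  have h5 : AgPol.IsLevelStr (Red.bc (c.π.app i) M.X) g n (fun k => secBc (c.π.app i) (s k)) := by
    have : (fun k => σ k ≫ M.e.symm.hom) = fun k => secBc (c.π.app i) (s k) := funext e1
    rwa [this] at h4
  obtain ⟨a, ha⟩ := (H c.pt (c.π.app i)).1 h5
  obtain ⟨j, f, b, -, hb⟩ := exists_fac hc z a ha
  exact ⟨j, f, (H (D.obj j) (D.map f)).2 ⟨b, hb⟩⟩

end

end K250.AgLim
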