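import Groth.Agent.TateGlob.K620.MdlLim
import Groth.Agent.AbSch.K297.Stage
import Groth.Agent.AgPol.K275.AbLoc
import Groth.Agent.CurvSt.K333.StableOpen
import Groth.Agent.Ega3B.LimInvK1
import Groth.Agent.AgPol.K533.GeomAmple
import Groth.Agent.AgPol.K540.Laws

/-!
# Models of abelian schemes and of relatively ample classes at a stage of a cofiltered limit

`D : I ⥤ Scheme` is a cofiltered system of quasi-compact quasi-separated schemes with affine transition maps, `c` its
limit, scheme-theoretically dominant over every stage.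

* `mm M` : the comparison `A.left ⟶ M.X.left` of a model of `A`, `gm_mm` : it is cartesian and multiplicative;
* `exists_ab` : an abelian scheme over `c.pt` has an abelian scheme as a model;
* `exists_amp` : a relatively ample class comes from a relatively ample class of a later model.
-/

set_option autoImplicit false
set_option backward.isDefEq.respectTransparency false
set_option backward.defeqAttrib.useBackward true
universe u

open CategoryTheory Limits MonoidalCategory CartesianMonoidalCategory AlgebraicGeometry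
open scoped MonObj

namespace K250.AgLim

open K533.PolBC K620.GMod K210.LimHom Groth.Agent.Ega43.LimitDescend Groth.Agent Groth.Agent.Sga3.H515 Groth.Agent.Grpsch.PicGrp K540.Ag

noncomputable section

section gen

variable {N B B' : Scheme.{u}} {t : N ⟶ B} {t' : N ⟶ B'} {G : Over N} [GrpObj G]

/-- The comparison morphism of a model. -/
def mm (M : Mdl t G) : G.left ⟶ M.X.left := M.e.inv.left ≫ pullback.fst M.X.hom t

theorem gm_mm (M : Mdl t G) : GM t G M.X (mm M) := by
  have h0 : IsMonHom M.e.symm.hom := inferInstanceAs (IsMonHom M.e.inv)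
  have h1 := GM.ofIso M.e.symm
  have h2 := h1.comp (GM.bc t M.X)
  rw [Category.id_comp] at h2
  exact h2

theorem mm_hom (M : Mdl t G) : mm M ≫ M.X.hom = G.hom ≫ t := (gm_mm M).pb.w

theorem mm_bc (M : Mdl t G) (b : B' ⟶ B) (h : t' ≫ b = t) : mm (M.bc b h) ≫ pullback.fst M.X.hom b = mm M := by
  have e1 : (M.bc b h).e.inv = M.e.inv ≫ (ActBC.bcCompIso t' b M.X h).inv := rfl
  rw [mm, mm, Category.assoc, e1, Over.comp_left, Category.assoc]
  congr 1
  have e2 := ActBC.bcCompIso_hom_left_fst t' b M.X h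
  have e3 : (ActBC.bcCompIso t' b M.X h).inv.left ≫ (ActBC.bcCompIso t' b M.X h).hom.left = 𝟙 _ := by
    rw [← Over.comp_left, Iso.inv_hom_id]
    rfl
  refine Eq.trans (congrArg (_ ≫ ·) e2.symm) ?_
  refine (Category.assoc _ _ _).symm.trans ((congrArg (· ≫ _) e3).trans (Category.id_comp _))

theorem mm_e (M : Mdl t G) : M.e.hom.left ≫ mm M = pullback.fst M.X.hom t := by
  rw [mm, ← Category.assoc, ← Over.comp_left, Iso.hom_inv_id]
  exact Category.id_comp _

end gen

variable {I : Type u} [SmallCategory I] {D : I ⥤ Scheme.{u}} {c : Cone D}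

section ab

variable [IsCofiltered I] (hc : IsLimit c) [∀ (i i' : I) (f : i ⟶ i'), IsAffineHom (D.map f)]
    [∀ i, CompactSpace (D.obj i)] [∀ i, QuasiSeparatedSpace (D.obj i)]

include hc

omit [∀ i, QuasiSeparatedSpace (D.obj i)] in
/-- An open of a stage through which the limit factors is everything at a later stage. -/
theorem exists_range {i : I} (U : (D.obj i).Opens) (h : Set.range (c.π.app i) ⊆ (U : Set (D.obj i))) :
    ∃ (j : I) (f : j ⟶ i), Set.range (D.map f) ⊆ (U : Set (D.obj i)) := by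
  obtain ⟨j, f, hf⟩ := exists_map_eq_top D c hc (i := i) U (by
    rw [eq_top_iff]
    intro x _
    exact h ⟨x, rfl⟩)
  refine ⟨j, f, ?_⟩
  rintro _ ⟨x, rfl⟩
  have h1 : x ∈ D.map f ⁻¹ᵁ U := by
    rw [hf]
    trivial
  exact h1

variable [∀ i, IsSchemeTheoreticallyDominant (c.π.app i)] [∀ i, QuasiCompact (c.π.app i)]

/-- Abelian schemes over the limit come from a stage. -/
theorem exists_ab {g : ℕ} (A : Over c.pt) [GrpObj A] [IsCommMonObj A] (hA : AgPol.IsAbSch A g) :
    ∃ (i : I) (M : Mdl (c.π.app i) A), AgPol.IsAbSch M.X g := by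
  have a1 := hA.smooth
  have a2 := hA.proper
  have a3 := hA.geomConnected
  obtain ⟨i₀⟩ : Nonempty I := IsCofiltered.nonempty
  obtain ⟨i, -, ⟨M⟩⟩ := exists_mdl hc A i₀
  obtain ⟨j, f, h1⟩ := exists_prop_hom hc LimSmooth.descendsLim_smooth M hA.smooth
  obtain ⟨k, g', h2⟩ := exists_prop_hom hc K286.Desc.descendsLim_isProper (M.mv f) hA.proper
  let M₂ := (M.mv f).mv g'
  have m1 : Smooth M₂.X.hom := by
    change Smooth (pullback.snd (M.mv f).X.hom (D.map g'))
    infer_instance
  have m2 : IsProper M₂.X.hom := h2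
  have m3 : GeometricallyReduced M₂.X.hom := K448.SmoothConn.geometricallyReduced _
  obtain ⟨l, h3⟩ := K297.Stage.exists_geomConn hc M₂.e hA.geomConnected
  let M₃ := M₂.mv l.hom
  have n1 : Smooth M₃.X.hom := inferInstanceAs (Smooth (pullback.snd M₂.X.hom (D.map l.hom)))
  have n2 : IsProper M₃.X.hom := inferInstanceAs (IsProper (pullback.snd M₂.X.hom (D.map l.hom)))
  have n3 : GeometricallyConnected M₃.X.hom := h3
  have hd : AgPol.IsAbSch (Red.bc (c.π.app l.left) M₃.X) g := isAbSch_of_iso M₃.e.symm hA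
  obtain ⟨m, φ, h4⟩ := exists_range hc (K275.AbLoc.dimBase M₃.X g)
    ((K275.AbLoc.fibreDim_bc_iff M₃.X (c.π.app l.left) g).1 hd.fibreDim)
  refine ⟨m, M₃.mv φ, ?_, ?_, ?_, ?_⟩
  · exact inferInstanceAs (Smooth (pullback.snd M₃.X.hom (D.map φ)))
  · exact inferInstanceAs (IsProper (pullback.snd M₃.X.hom (D.map φ)))
  · exact inferInstanceAs (GeometricallyConnected (pullback.snd M₃.X.hom (D.map φ)))
  · exact (K275.AbLoc.fibreDim_bc_iff M₃.X (D.map φ) g).2 h4

end ab

section amp

open CurvSt K333.StableOpen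

/-- Ampleness of the pull-back to a fibre. -/
theorem isAmple_comp {X Y Z : Scheme.{u}} (a : X ⟶ Y) (b : Y ⟶ Z) (d : X ⟶ Z) (h : a ≫ b = d) (M : Z.Modules) :
    CohB1.IsAmple ((Scheme.Modules.pullback a).obj ((Scheme.Modules.pullback b).obj M)) ↔
      CohB1.IsAmple ((Scheme.Modules.pullback d).obj M) := by
  subst h
  exact (Models2.AmplePull.isAmple_pullback_comp a b M).symm

variable [IsCofiltered I] (hc : IsLimit c) [∀ (i i' : I) (f : i ⟶ i'), IsAffineHom (D.map f)]
    [∀ i, CompactSpace (D.obj i)] [∀ i, QuasiSeparatedSpace (D.obj i)]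

include hc

/-- Relatively ample classes come from a stage. -/
theorem exists_amp {g : ℕ} {A : Over c.pt} [GrpObj A] {i : I} (M : Mdl (c.π.app i) A) (hM : AgPol.IsAbSch M.X g)
    {L : A.left.Modules} (hL : PicF.IsInvertible L) (hLa : RelAmple.IsRelAmple A.hom L) :
    ∃ (j : I) (M' : Mdl (c.π.app j) A) (L' : M'.X.left.Modules) (hL' : PicF.IsInvertible L'),
      AgPol.IsAbSch M'.X g ∧ RelAmple.IsRelAmple M'.X.hom L' ∧ pull (mm M') (mk L' hL') = mk L hL := by
  have p1 := hM.proper
  have p2 := hM.smooth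
  have p0 : IsProper A.hom := MorphismProperty.of_isPullback (P := @IsProper) (gm_mm M).pb p1
  -- the invertible module descends
  have hw : ∀ j : Over i, (overCone c i).π.app j ≫ D.map j.hom = c.π.app i := fun j => c.w j.hom
  let s : Over.forget i ⋙ D ⟶ (Functor.const (Over i)).obj (D.obj i) :=
    { app := fun j => D.map j.hom
      naturality := fun j k φ => by
        dsimp
        rw [Category.comp_id, ← D.map_comp, Over.w] }
  obtain ⟨j, w, M₁, hM₁, ⟨e₁⟩⟩ := Ega3B.LimInv.exists_invertible_bc (D := Over.forget i ⋙ D) (s := s) (f := M.X.hom)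
    (overCone c i) (t := c.π.app i) hw (gm_mm M).pb (isLimitOverCone c hc i) hL
  have e2 : pullback.lift (mm M) (A.hom ≫ (overCone c i).π.app j) w = mm (M.mv j.hom) := by
    apply pullback.hom_ext
    · rw [pullback.lift_fst]
      exact (mm_bc M (D.map j.hom) (c.w j.hom)).symm
    · rw [pullback.lift_snd]
      exact (mm_hom (M.mv j.hom)).symm
  rw [e2] at e₁
  -- the ample locus
  let f₁ : (M.mv j.hom).X.left ⟶ D.obj j.left := (M.mv j.hom).X.hom
  have p3 : IsProper f₁ := inferInstanceAs (IsProper (pullback.snd M.X.hom (D.map j.hom)))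
  have p4 : LocallyOfFinitePresentation f₁ :=
    inferInstanceAs (LocallyOfFinitePresentation (pullback.snd M.X.hom (D.map j.hom)))
  have hM₁' : PicF.IsInvertible (Y := (M.mv j.hom).X.left) M₁ := hM₁
  let U : (D.obj j.left).Opens := ⟨_, isOpen_ample f₁ hM₁'⟩
  obtain ⟨k, φ, hφ⟩ := exists_range hc U (by
    rintro _ ⟨y, rfl⟩
    have q1 : IsPullback (A.hom.fiberι y) (A.hom.fiberToSpecResidueField y) A.hom (c.pt.fromSpecResidueField y) :=
      IsPullback.of_hasPullback _ _
    have q2 := q1.paste_horiz (gm_mm (M.mv j.hom)).pb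
    have q3 : CohB1.IsAmple ((Scheme.Modules.pullback (A.hom.fiberι y)).obj L) := by
      have := Ega2.RelAmp.relAmple_baseChange A.hom (c.pt.fromSpecResidueField y) L hLa
      rwa [Ega2.RelAmp.isRelAmple_iff_isAmple] at this
    have q4 := (isAmple_iff_fibre f₁ hM₁' q2).1 ((isAmple_comp _ _ _ rfl _).1
      (Ega2.Weight.isAmple_of_iso ((Scheme.Modules.pullback (A.hom.fiberι y)).mapIso e₁.symm) q3))
    have q5 : (c.pt.fromSpecResidueField y ≫ c.π.app j.left) (IsLocalRing.closedPoint (c.pt.residueField y)) =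
        c.π.app j.left y := by
      rw [Scheme.Hom.comp_apply]
      exact congrArg _ (c.pt.fromSpecResidueField_apply y _)
    have q6 : CohB1.IsAmple ((Scheme.Modules.pullback (f₁.fiberι (c.π.app j.left y))).obj M₁) := by
      rw [← q5]
      exact q4
    exact q6)
  let M₂ := (M.mv j.hom).mv φ
  have hb : mm M₂ ≫ pullback.fst f₁ (D.map φ) = mm (M.mv j.hom) := mm_bc (M.mv j.hom) (D.map φ) (c.w φ)
  have h2 := isAbSch_bc (D.map φ) (isAbSch_bc (D.map j.hom) hM)
  have p5 : IsProper M₂.X.hom := h2.proper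
  have p6 : Smooth M₂.X.hom := h2.smooth
  refine ⟨k, M₂, (Scheme.Modules.pullback (pullback.fst f₁ (D.map φ))).obj M₁,
    Fdesc.LocGen.isInvertible_pullback _ hM₁', h2, ?_, ?_⟩
  · refine K533.GeomAmple.isRelAmple_of_geom _ _ (Fdesc.LocGen.isInvertible_pullback _ hM₁') fun Ω _ _ t => ?_
    have q1 : IsPullback (pullback.fst M₂.X.hom t ≫ pullback.fst f₁ (D.map φ)) (pullback.snd M₂.X.hom t) f₁
        (t ≫ D.map φ) :=
      (IsPullback.of_hasPullback M₂.X.hom t).paste_horiz (IsPullback.of_hasPullback f₁ (D.map φ))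
    refine (isAmple_comp (pullback.fst M₂.X.hom t) (pullback.fst f₁ (D.map φ)) _ rfl M₁).2 ?_
    refine (isAmple_iff_fibre f₁ hM₁' q1).2 ?_
    exact hφ ⟨t (IsLocalRing.closedPoint Ω), rfl⟩
  · rw [← pull_mk _ hM₁', ← pull_comp, hb, pull_mk, mk_eq_iff]
    exact ⟨e₁⟩

end amp

end

end K250.AgLim
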