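import Groth.Agent.AgPol.K250.PolStage
import Groth.Agent.AgPol.K250.Lev

/-!
# Core families over a limit come from a stage

* `exists_obj` : admissible data over the limit come from admissible data over a stage;
* `core_obj` : the same for core families, in terms of cartesian morphisms.
-/

set_option autoImplicit false
set_option backward.isDefEq.respectTransparency false
set_option backward.defeqAttrib.useBackward true
universe u

open CategoryTheory Limits MonoidalCategory CartesianMonoidalCategory AlgebraicGeometry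
open scoped MonObj

namespace K250.AgLim

open K533.PolBC K620.GMod K210.LimHom Groth.Agent.Ega43.LimitDescend Groth.Agent Groth.Agent.Sga3.H515
  Groth.Agent.Grpsch.PicGrp K540.Ag K117.Ag

noncomputable section

section raw

variable {I : Type u} [SmallCategory I] {D : I ⥤ Scheme.{u}} {c : Cone D}
variable [IsCofiltered I] (hc : IsLimit c) [∀ (i i' : I) (f : i ⟶ i'), IsAffineHom (D.map f)]
    [∀ i, CompactSpace (D.obj i)] [∀ i, QuasiSeparatedSpace (D.obj i)]
    [∀ i, IsSchemeTheoreticallyDominant (c.π.app i)] [∀ i, QuasiCompact (c.π.app i)]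
    [∀ i, IsLocallyNoetherian (D.obj i)]

include hc

/-- **Admissible data over the limit come from a stage.** -/
theorem exists_obj {g d n : ℕ} (hg : 1 ≤ g) (hn : 1 ≤ n) (A : Over c.pt) [GrpObj A] [IsCommMonObj A]
    (hA : AgPol.IsAbSch A g) (cl : Pic A.left) (hpol : IsPolCl A d cl) (σ : Fin (2 * g) → (𝟙_ (Over c.pt) ⟶ A))
    (hσ : AgPol.IsLevelStr A g n σ) :
    ∃ (j : I) (M : Mdl (c.π.app j) A) (c' : Pic M.X.left) (s : Fin (2 * g) → (𝟙_ (Over (D.obj j)) ⟶ M.X)),
      AgPol.IsAbSch M.X g ∧ pull (η[M.X] : 𝟙_ (Over (D.obj j)) ⟶ M.X).left c' = 1 ∧ IsPolCl M.X d c' ∧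
      AgPol.IsLevelStr M.X g n s ∧ pull (mm M) c' = cl ∧ ∀ k, (σ k).left ≫ mm M = c.π.app j ≫ (s k).left := by
  obtain ⟨L, hL, rfl⟩ := exists_mk cl
  obtain ⟨i₀, M₀, h₀⟩ := exists_ab hc A hA
  obtain ⟨i₁, M₁, L₁, hL₁, h₁, hLa₁, hcl₁⟩ := exists_amp hc M₀ h₀ hL (isRelAmple A g d hA L hL hpol)
  rw [← hcl₁] at hpol
  obtain ⟨i₂, -, M₂, c₂, h₂, hrig₂, hpol₂, hcl₂⟩ := exists_pol hc M₁ h₁ hL₁ hLa₁ hpol
  obtain ⟨i₃, f₃, s₃, hs₃⟩ := exists_sec hc M₂ σ
  have h₃ : AgPol.IsAbSch (M₂.mv f₃).X g := isAbSch_bc (D.map f₃) h₂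
  obtain ⟨i₄, f₄, h₄⟩ := exists_lev hc hg hn (M₂.mv f₃) h₃ σ hσ s₃ hs₃
  let M₃ := M₂.mv f₃
  let M₄ := M₃.mv f₄
  let c₃ : Pic M₃.X.left := pull (pullback.fst M₂.X.hom (D.map f₃)) c₂
  let c₄ : Pic M₄.X.left := pull (pullback.fst M₃.X.hom (D.map f₄)) c₃
  refine ⟨i₄, M₄, c₄, fun k => secBc (D.map f₄) (s₃ k), isAbSch_bc (D.map f₄) h₃, ?_, ?_, h₄, ?_, fun k => ?_⟩
  · have e := ((GM.bc (D.map f₄) M₃.X).comp (GM.bc (D.map f₃) M₂.X)).eta
    refine Eq.trans (b := pull ((η[M₄.X] : 𝟙_ (Over (D.obj i₄)) ⟶ M₄.X).left ≫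
      pullback.fst M₃.X.hom (D.map f₄) ≫ pullback.fst M₂.X.hom (D.map f₃)) c₂) ?_ ?_
    · rw [pull_comp, pull_comp]
      rfl
    · exact (congrArg (fun m => pull m c₂) e).trans ((pull_comp _ _ _).trans
        ((congrArg (pull (D.map f₄ ≫ D.map f₃)) hrig₂).trans (map_one _)))
  · exact K533.PolClBC.isPolCl_bc (D.map f₄) h₃ (K533.PolClBC.isPolCl_bc (D.map f₃) h₂ hpol₂)
  · refine (pull_mm_bc M₃ (D.map f₄) (c.w f₄) c₃).trans ((pull_mm_bc M₂ (D.map f₃) (c.w f₃) c₂).trans ?_)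
    rw [hcl₂, hcl₁]
  · have e1 : mm M₄ ≫ pullback.fst M₃.X.hom (D.map f₄) = mm M₃ := mm_bc M₃ (D.map f₄) (c.w f₄)
    have e2 : mm M₄ ≫ pullback.snd M₃.X.hom (D.map f₄) = A.hom ≫ c.π.app i₄ := mm_hom M₄
    have hσk : (σ k).left ≫ A.hom = 𝟙 _ := Over.w (σ k)
    have e3 : (secBc (D.map f₄) (s₃ k)).left ≫ pullback.fst M₃.X.hom (D.map f₄) = D.map f₄ ≫ (s₃ k).left :=
      pullback.lift_fst _ _ _
    have e4 : (secBc (D.map f₄) (s₃ k)).left ≫ pullback.snd M₃.X.hom (D.map f₄) = 𝟙 _ := pullback.lift_snd _ _ _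
    apply pullback.hom_ext
    · refine (Category.assoc _ _ _).trans ((congrArg ((σ k).left ≫ ·) e1).trans ((hs₃ k).trans ?_))
      refine Eq.trans ?_ ((Category.assoc _ _ _).trans (congrArg (c.π.app i₄ ≫ ·) e3)).symm
      rw [← Category.assoc, c.w]
    · refine (Category.assoc _ _ _).trans ((congrArg ((σ k).left ≫ ·) e2).trans ?_)
      refine Eq.trans ?_ ((Category.assoc _ _ _).trans (congrArg (c.π.app i₄ ≫ ·) e4)).symm
      refine (Category.assoc _ _ _).symm.trans ((congrArg (· ≫ c.π.app i₄) hσk).trans ?_)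
      exact (Category.id_comp _).trans (Category.comp_id _).symm

end raw

section core

theorem qc_of_affine {X Y : Scheme.{u}} [IsAffine X] [IsAffine Y] (f : X ⟶ Y) : QuasiCompact f := inferInstance

variable {S : Scheme.{u}} {I : Type u} [SmallCategory I] [IsCofiltered I] {D : I ⥤ Over S} {c : Cone D}
  (hc : IsLimit ((Over.forget S).mapCone c)) (hD : ∀ i, IsAffine (D.obj i).left)
  (hN : ∀ i, IsNoetherian (D.obj i).left) (hdom : ∀ i, IsSchemeTheoreticallyDominant (c.π.app i).left)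
  (hT : IsAffine c.pt.left)

include hD in
theorem aff_map {i j : I} (f : i ⟶ j) : IsAffineHom ((D ⋙ Over.forget S).map f) := by
  have := hD i
  have := hD j
  change IsAffineHom (D.map f).left
  infer_instance

include hD in
theorem cpt_obj (i : I) : CompactSpace ((D ⋙ Over.forget S).obj i) := by
  have := hD i
  change CompactSpace (D.obj i).left
  infer_instance

include hD in
theorem qs_obj (i : I) : QuasiSeparatedSpace ((D ⋙ Over.forget S).obj i) := by
  have := hD i
  change QuasiSeparatedSpace (D.obj i).left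
  infer_instance

include hN in
theorem ln_obj (i : I) : IsLocallyNoetherian ((D ⋙ Over.forget S).obj i) := by
  have := hN i
  change IsLocallyNoetherian (D.obj i).left
  infer_instance

include hD hT in
theorem qc_π (i : I) : QuasiCompact (((Over.forget S).mapCone c).π.app i) := by
  have := hD i
  exact qc_of_affine (X := c.pt.left) (Y := (D.obj i).left) (c.π.app i).left

include hc hD hN hdom hT

/-- **Admissible core families over the limit come from a stage.** -/
theorem core_obj {g d n : ℕ} (hg : 1 ≤ g) (hn : 1 ≤ n) (z : Core c.pt g) (hz : Core.ok g d n c.pt z) :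
    ∃ (j : I) (w : Core (D.obj j) g), Core.ok g d n (D.obj j) w ∧ ∃ m, CM (c.π.app j).left z w m := by
  have h1 : ∀ {i j : I} (f : i ⟶ j), IsAffineHom ((D ⋙ Over.forget S).map f) := aff_map hD
  have h2 := cpt_obj hD
  have h3 := qs_obj hD
  have h4 := ln_obj hN
  have h5 : ∀ i, IsSchemeTheoreticallyDominant (((Over.forget S).mapCone c).π.app i) := hdom
  have h6 := qc_π hD hT
  let A : Over ((Over.forget S).mapCone c).pt := z.X
  let _ : GrpObj A := z.grp
  have hcomm : IsCommMonObj A := hz.comm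
  obtain ⟨j, M, c', s, a1, a2, a3, a4, a5, a6⟩ := exists_obj (c := (Over.forget S).mapCone c) hc hg hn A hz.ab z.c
    hz.pol z.σ hz.level
  exact ⟨j, ⟨M.X, inferInstance, c', s⟩, ⟨a1, M.comm, a2, a3, a4⟩, mm M, gm_mm M, a5, a6⟩

end core

end

end K250.AgLim
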