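import Groth.Agent.AgPol.K250.Mod
import Groth.Agent.AgPol.K513.PolLocus

/-!
# Descent of polarisations to a stage of a cofiltered limit

* `hasDegSq_of_dom` : the degree may be computed after base change along a scheme-theoretically dominant morphism;
* `exists_lam_stage` : the homomorphism of a polarisation class over the limit comes from a stage.
-/

set_option autoImplicit false
set_option backward.isDefEq.respectTransparency false
set_option backward.defeqAttrib.useBackward true
universe u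

open CategoryTheory Limits MonoidalCategory CartesianMonoidalCategory AlgebraicGeometry
open scoped MonObj

namespace K250.AgLim

open K533.PolBC K620.GMod K210.LimHom Groth.Agent.Ega43.LimitDescend Groth.Agent Groth.Agent.Sga3.H515
  Groth.Agent.Grpsch.PicGrp K540.Ag Groth.Agent.Fga.RigGrp K732.PicZero K732.Prim K732.Dual K732.CubeSec K814 K732.BC
  MumHom K117.Ag

noncomputable section

section deg

/-- The rank of a finite flat morphism is determined on a dense subset. -/
theorem finrank_of_dense {X Y X' Y' : Scheme.{u}} {f : X ⟶ Y} {f' : X' ⟶ Y'} {a : X' ⟶ X} {p : Y' ⟶ Y}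
    (h : IsPullback a f' f p) [IsFinite f] [Flat f] [LocallyOfFinitePresentation f] (hp : DenseRange p) (r : ℕ)
    (hr : ∀ y', f'.finrank y' = r) (y : Y) : f.finrank y = r := by
  have h1 : IsClopen {y | f.finrank y = r} := (Scheme.Hom.isLocallyConstant_finrank f).isClopen_fiber r
  have h2 : closure (Set.range p) ⊆ {y | f.finrank y = r} := h1.1.closure_subset_iff.2 (by
    rintro _ ⟨y', rfl⟩
    have h3 := Scheme.Hom.finrank_of_isPullback _ _ _ _ h y'
    exact h3.symm.trans (hr y'))
  exact h2 (hp y)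

theorem hasDegSq_of_dom {N B : Scheme.{u}} (t : N ⟶ B) [IsSchemeTheoreticallyDominant t] [QuasiCompact t]
    {A At : Over B} [Flat At.hom] (f : A ⟶ At) (h1 : IsFinite f.left) (h2 : Flat f.left)
    (h3 : LocallyOfFinitePresentation f.left) {d : ℕ} (h : AgPol.HasDegSq ((Over.pullback t).map f) d) :
    AgPol.HasDegSq f d := by
  have hd : IsSchemeTheoreticallyDominant (pullback.fst At.hom t) := inferInstance
  have hq : QuasiCompact (pullback.fst At.hom t) := inferInstance
  have hdom : IsDominant (pullback.fst At.hom t) := inferInstance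
  exact ⟨h1, h2, h3, finrank_of_dense (isPullback_map t f) hdom.1 _ h.2.2.2⟩

theorem hasDegSq_iso {S : Scheme.{u}} {A B A' B' : Over S} (e : A' ≅ A) (e' : B ≅ B') (f : A ⟶ B) {d : ℕ}
    (h : AgPol.HasDegSq f d) : AgPol.HasDegSq (e.hom ≫ f ≫ e'.hom) d := by
  obtain ⟨h1, h2, h3, h4⟩ := h
  have i1 : IsIso e.hom.left := inferInstanceAs (IsIso ((Over.forget S).map e.hom))
  have i2 : IsIso e'.inv.left := inferInstanceAs (IsIso ((Over.forget S).map e'.inv))
  have hp : IsPullback e.hom.left (e.hom ≫ f ≫ e'.hom).left f.left e'.inv.left := by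
    refine IsPullback.of_horiz_isIso ⟨?_⟩
    rw [← Over.comp_left, ← Over.comp_left]
    simp
  refine ⟨MorphismProperty.of_isPullback hp h1, MorphismProperty.of_isPullback hp h2,
    MorphismProperty.of_isPullback hp h3, fun y => ?_⟩
  rw [Scheme.Hom.finrank_of_isPullback _ _ _ _ hp]
  exact h4 _

end deg

section evbc

variable {S S' : Scheme.{u}} (k : S' ⟶ S) {A At : Over S}

theorem ev_id_bc (v : Red.bc k A ⟶ Red.bc k At) (ξ : Pic (PicF.XT A.hom At)) :
    ev (𝟙 _) v (bcXi k A At ξ) = pull (pullback.lift (pullback.fst A.hom k) (v.left ≫ pullback.fst At.hom k) (by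
      have h1 : v.left ≫ pullback.snd At.hom k = pullback.snd A.hom k := Over.w v
      rw [Category.assoc, pullback.condition, pullback.condition, ← Category.assoc, h1])) ξ := by
  obtain ⟨w, hw⟩ := exists_up (k := k) (A := At) v
  have e1 := ev_bcXi (k := k) (prj k A) w ξ
  rw [up_prj, hw] at e1
  rw [e1]
  have e2 : v.left ≫ pullback.fst At.hom k = w.left := by
    rw [← hw]
    exact up_left_fst w
  refine congrArg (fun m => pull m ξ) ?_
  apply pullback.hom_ext
  · rw [pullback.lift_fst]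
    have := congrArg CommaMorphism.left (lift_fst (prj k A) w)
    exact this
  · rw [pullback.lift_snd, e2]
    exact congrArg CommaMorphism.left (lift_snd (prj k A) w)

end evbc

section bcinv

variable {S S' S'' : Scheme.{u}} (f : S'' ⟶ S') (g : S' ⟶ S) {d : S'' ⟶ S} (h : f ≫ g = d) (X : Over S)

theorem bcInv_fst : (ActBC.bcCompIso f g X h).inv.left ≫ pullback.fst (Red.bc g X).hom f ≫ pullback.fst X.hom g =
    pullback.fst X.hom d := by
  have e1 := ActBC.bcCompIso_hom_left_fst f g X h
  have e2 : (ActBC.bcCompIso f g X h).inv.left ≫ (ActBC.bcCompIso f g X h).hom.left = 𝟙 _ := by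
    rw [← Over.comp_left, Iso.inv_hom_id]
    rfl
  refine (congrArg (_ ≫ ·) e1.symm).trans ?_
  exact (Category.assoc _ _ _).symm.trans ((congrArg (· ≫ _) e2).trans (Category.id_comp _))

/-- The first component of a morphism with given base change. -/
theorem v_fst {X Y : Over S} (v : Red.bc g X ⟶ Red.bc g Y) (lam : Red.bc d X ⟶ Red.bc d Y)
    (hv : (Over.pullback f).map v = (ActBC.bcCompIso f g X h).hom ≫ lam ≫ (ActBC.bcCompIso f g Y h).inv) :
    (ActBC.bcCompIso f g X h).inv.left ≫ pullback.fst (Red.bc g X).hom f ≫ v.left ≫ pullback.fst Y.hom g =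
      lam.left ≫ pullback.fst Y.hom d := by
  have e1 : pullback.fst (Red.bc g X).hom f ≫ v.left = ((Over.pullback f).map v).left ≫ pullback.fst (Red.bc g Y).hom f :=
    (ActBC.pullback_map_left_fst f v).symm
  have e2 : (ActBC.bcCompIso f g X h).inv ≫ (Over.pullback f).map v = lam ≫ (ActBC.bcCompIso f g Y h).inv := by
    rw [hv, Iso.inv_hom_id_assoc]
  have e3 : (ActBC.bcCompIso f g X h).inv.left ≫ ((Over.pullback f).map v).left =
      lam.left ≫ (ActBC.bcCompIso f g Y h).inv.left := by
    rw [← Over.comp_left, e2, Over.comp_left]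
  calc _ = (ActBC.bcCompIso f g X h).inv.left ≫ (pullback.fst (Red.bc g X).hom f ≫ v.left) ≫ pullback.fst Y.hom g := by
        rw [Category.assoc]
    _ = ((ActBC.bcCompIso f g X h).inv.left ≫ ((Over.pullback f).map v).left) ≫ pullback.fst (Red.bc g Y).hom f ≫
          pullback.fst Y.hom g := by
        rw [e1, Category.assoc, Category.assoc]
    _ = lam.left ≫ (ActBC.bcCompIso f g Y h).inv.left ≫ pullback.fst (Red.bc g Y).hom f ≫ pullback.fst Y.hom g := by
        rw [e3, Category.assoc]
    _ = _ := by rw [bcInv_fst]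

end bcinv

section mmv

variable {N B B' : Scheme.{u}} {t : N ⟶ B} {t' : N ⟶ B'} {G : Over N} [GrpObj G] (M : Mdl t G) (b : B' ⟶ B)
  (h : t' ≫ b = t) {Y : Over B}

theorem pull_mm_bc (x : Pic M.X.left) :
    pull (mm (M.bc b h)) (pull (pullback.fst M.X.hom b) x) = pull (mm M) x :=
  (pull_comp _ _ _).symm.trans (congrArg (fun m => pull m x) (mm_bc M b h))

theorem mm_bc_eq : mm (M.bc b h) =
    M.e.inv.left ≫ (ActBC.bcCompIso t' b M.X h).inv.left ≫ pullback.fst (Red.bc b M.X).hom t' := by
  have e1 : (M.bc b h).e.inv = M.e.inv ≫ (ActBC.bcCompIso t' b M.X h).inv := rfl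
  rw [mm, e1, Over.comp_left]
  exact Category.assoc _ _ _

theorem mm_v_fst (v : Red.bc b M.X ⟶ Red.bc b Y) (lam : Red.bc t M.X ⟶ Red.bc t Y)
    (hv : (Over.pullback t').map v = (ActBC.bcCompIso t' b M.X h).hom ≫ lam ≫ (ActBC.bcCompIso t' b Y h).inv) :
    mm (M.bc b h) ≫ v.left ≫ pullback.fst Y.hom b = M.e.inv.left ≫ lam.left ≫ pullback.fst Y.hom t := by
  have e1 := v_fst t' b h v lam hv
  have e2 := congrArg (· ≫ (v.left ≫ pullback.fst Y.hom b)) (mm_bc_eq M b h)
  refine e2.trans ?_
  refine (Category.assoc _ _ _).trans ?_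
  refine congrArg (M.e.inv.left ≫ ·) ?_
  refine (Category.assoc _ _ _).trans ?_
  exact e1

/-- The class of the descended homomorphism. -/
theorem pull_mm_ev (v : Red.bc b M.X ⟶ Red.bc b Y) (lam : Red.bc t M.X ⟶ Red.bc t Y)
    (hv : (Over.pullback t').map v = (ActBC.bcCompIso t' b M.X h).hom ≫ lam ≫ (ActBC.bcCompIso t' b Y h).inv)
    (ξ : Pic (PicF.XT M.X.hom Y)) :
    pull (mm (M.bc b h)) (ev (𝟙 (Red.bc b M.X)) v (bcXi b M.X Y ξ)) =
      pull M.e.inv.left (ev (𝟙 (Red.bc t M.X)) lam (bcXi t M.X Y ξ)) := by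
  rw [ev_id_bc t lam ξ]
  refine Eq.trans (congrArg (pull (mm (M.bc b h))) (ev_id_bc b v ξ)) ?_
  refine Eq.trans (pull_comp _ _ _).symm (Eq.trans ?_ (pull_comp _ _ _))
  refine congrArg (fun m => pull m ξ) ?_
  apply pullback.hom_ext
  · refine (Category.assoc _ _ _).trans (Eq.trans (congrArg (mm (M.bc b h) ≫ ·) (pullback.lift_fst _ _ _)) ?_)
    refine Eq.trans ?_ ((congrArg (M.e.inv.left ≫ ·) (pullback.lift_fst _ _ _)).symm.trans (Category.assoc _ _ _).symm)
    exact mm_bc M b h
  · refine (Category.assoc _ _ _).trans (Eq.trans (congrArg (mm (M.bc b h) ≫ ·) (pullback.lift_snd _ _ _)) ?_)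
    refine Eq.trans ?_ ((congrArg (M.e.inv.left ≫ ·) (pullback.lift_snd _ _ _)).symm.trans (Category.assoc _ _ _).symm)
    exact mm_v_fst M b h v lam hv

end mmv

section lam

variable {I : Type u} [SmallCategory I] {D : I ⥤ Scheme.{u}} {c : Cone D}
variable [IsCofiltered I] (hc : IsLimit c) [∀ (i i' : I) (f : i ⟶ i'), IsAffineHom (D.map f)]
    [∀ i, CompactSpace (D.obj i)] [∀ i, QuasiSeparatedSpace (D.obj i)]
    [∀ i, IsSchemeTheoreticallyDominant (c.π.app i)] [∀ i, QuasiCompact (c.π.app i)]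

include hc

/-- The homomorphism of a polarisation class over the limit comes from a stage. -/
theorem exists_lam_stage {g d : ℕ} {A : Over c.pt} [GrpObj A] {i : I} (M : Mdl (c.π.app i) A)
    (hM : AgPol.IsAbSch M.X g) {At : Over (D.obj i)} [GrpObj At] [IsCommMonObj At] (hAt : AgPol.IsAbSch At g)
    {φ : AgPol.DualMap M.X At} (hD : AbDual.IsDualAV Scheme.fppfPrecoverage M.X At φ)
    {ξ : Pic (PicF.XT M.X.hom At)} (h1 : ξ ∈ pz M.X.hom At) (h2 : ξ ∈ rg M.X At) (h3 : cm φ ξ = 𝟙 At)
    (cl : Pic M.X.left) (hpol : IsPolCl A d (pull (mm M) cl)) :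
    ∃ (j : I) (f : j ⟶ i) (v : Red.bc (D.map f) M.X ⟶ Red.bc (D.map f) At), IsMonHom v ∧
      (Over.pullback (D.map f)).map (hom φ cl) = v * v ∧
      pull (mm (M.mv f)) (ev (𝟙 _) v (bcXi (D.map f) M.X At ξ)) = pull (mm M) cl ∧
      AgPol.HasDegSq ((Over.pullback (c.π.app j)).map v) d := by
  have a1 := hM.smooth
  have a2 := hM.proper
  have a3 := hM.geomConnected
  have a4 : GeometricallyIntegral M.X.hom := K814.AbBasic.geometricallyIntegral M.X
  have b1 := hAt.smooth
  have b2 := hAt.proper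
  -- the class over the limit
  have hA : AgPol.IsAbSch A g := isAbSch_of_iso M.e (isAbSch_bc (c.π.app i) hM)
  have hcl : pull M.e.hom.left (pull (mm M) cl) = pull (pullback.fst M.X.hom (c.π.app i)) cl := by
    rw [← pull_comp, mm_e]
    rfl
  have hT : IsPolCl (Red.bc (c.π.app i) M.X) d (pull (pullback.fst M.X.hom (c.π.app i)) cl) := by
    rw [← hcl]
    exact K116.ChIso.isPolCl_of_iso hA M.e hpol
  have a5 : IsProper (Red.bc (c.π.app i) M.X).hom := inferInstanceAs (IsProper (pullback.snd _ _))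
  have a6 : GeometricallyIntegral (Red.bc (c.π.app i) M.X).hom :=
    inferInstanceAs (GeometricallyIntegral (pullback.snd _ _))
  have hDT := isDualAV_bc (k := c.π.app i) hD
  have hT1 := bcXi_mem_pz (k := c.π.app i) h1
  have hT2 := bcXi_mem_rg (k := c.π.app i) h2
  have hT3 := cm_bcXi_eq (c.π.app i) hD h1 h3
  obtain ⟨lam, hlam, hdeg, hev⟩ := K513.PolUniq.exists_lam hDT hT1 hT2 hT3 hT
  have hmon := hlam.1
  have hhom : (Over.pullback (c.π.app i)).map (hom φ cl) = lam * lam := by
    rw [hom_bc hD (c.π.app i) cl, hev]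
    exact K513.PolUniq.hom_polCl hDT hT1 hT2 hT3 hlam
  obtain ⟨j, f, v, hv⟩ := exists_map_eq_of hc M.X At lam
  have hvm : IsMonHom v := by
    refine isMonHom_of_map (c.π.app j) v ?_
    rw [hv]
    infer_instance
  refine ⟨j, f, v, hvm, ?_, ?_, ?_⟩
  · refine map_inj (c.π.app j) ?_
    have e1 := ActBC.bcCompIso_hom_naturality (c.π.app j) (D.map f) (c.w f) (hom φ cl)
    rw [← Iso.eq_comp_inv, Category.assoc, hhom, MonObj.mul_comp, MonObj.comp_mul] at e1
    rw [e1]
    refine Eq.trans ?_ (Functor.map_mul (Over.pullback (c.π.app j)) v v).symm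
    rw [hv]
  · refine (pull_mm_ev M (D.map f) (c.w f) v lam hv ξ).trans ?_
    rw [← hev]
    exact (pull_comp _ _ _).symm
  · rw [hv]
    exact hasDegSq_iso (ActBC.bcCompIso (c.π.app j) (D.map f) M.X (c.w f))
      (ActBC.bcCompIso (c.π.app j) (D.map f) At (c.w f)).symm lam hdeg

end lam

section data

variable {I : Type u} [SmallCategory I] {D : I ⥤ Scheme.{u}} {c : Cone D}

/-- A symmetric homomorphism and a relatively ample class at a stage, inducing the class `cl` at the limit. -/
structure PolData {i : I} {A : Over c.pt} [GrpObj A] (M : Mdl (c.π.app i) A) (g d : ℕ) (cl : Pic A.left) :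
    Type (u + 1) where
  At : Over (D.obj i)
  [grp : GrpObj At]
  [comm : IsCommMonObj At]
  φ : AgPol.DualMap M.X At
  ξ : Pic (PicF.XT M.X.hom At)
  v : M.X ⟶ At
  L : Pic M.X.left
  ab : AgPol.IsAbSch M.X g
  abt : AgPol.IsAbSch At g
  dual : AbDual.IsDualAV Scheme.fppfPrecoverage M.X At φ
  h1 : ξ ∈ pz M.X.hom At
  h2 : ξ ∈ rg M.X At
  h3 : cm φ ξ = 𝟙 At
  mon : IsMonHom v
  amp : ∃ (L' : M.X.left.Modules) (hL' : PicF.IsInvertible L'), RelAmple.IsRelAmple M.X.hom L' ∧ mk L' hL' = L
  hom_eq : hom φ L = v * v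
  cls : pull (mm M) L = cl
  cls' : pull (mm M) (ev (𝟙 M.X) v ξ) = cl
  deg : AgPol.HasDegSq ((Over.pullback (c.π.app i)).map v) d

attribute [instance] PolData.grp PolData.comm

variable {i : I} {A : Over c.pt} [GrpObj A] {M : Mdl (c.π.app i) A} {g d : ℕ} {cl : Pic A.left}

/-- Base change to a later stage. -/
def PolData.mv (P : PolData M g d cl) {j : I} (f : j ⟶ i) : PolData (M.mv f) g d cl :=
  have a1 := P.ab.smooth
  have a2 := P.ab.proper
  have a3 := P.ab.geomConnected
  have a4 : GeometricallyIntegral M.X.hom := K814.AbBasic.geometricallyIntegral M.X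
  { At := Red.bc (D.map f) P.At
    grp := inferInstance
    comm := inferInstance
    φ := AgPol.bcDual (D.map f) M.X P.At P.φ
    ξ := bcXi (D.map f) M.X P.At P.ξ
    v := (Over.pullback (D.map f)).map P.v
    L := pull (pullback.fst M.X.hom (D.map f)) P.L
    ab := isAbSch_bc (D.map f) P.ab
    abt := isAbSch_bc (D.map f) P.abt
    dual := isDualAV_bc P.dual
    h1 := bcXi_mem_pz P.h1
    h2 := bcXi_mem_rg P.h2
    h3 := cm_bcXi_eq (D.map f) P.dual P.h1 P.h3
    mon := by
      have := P.mon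
      infer_instance
    amp := by
      obtain ⟨L', hL', h, e⟩ := P.amp
      refine ⟨(Scheme.Modules.pullback (pullback.fst M.X.hom (D.map f))).obj L',
        Fdesc.LocGen.isInvertible_pullback _ hL', Ega2.RelAmp.relAmple_baseChange M.X.hom (D.map f) L' h, ?_⟩
      rw [← e, pull_mk]
    hom_eq := by
      refine (hom_bc P.dual (D.map f) P.L).symm.trans ?_
      rw [P.hom_eq]
      exact Functor.map_mul (Over.pullback (D.map f)) P.v P.v
    cls := (pull_mm_bc M (D.map f) (c.w f) P.L).trans P.cls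
    cls' := Eq.trans (congrArg (pull (mm (M.mv f))) (K533.PolClBC.pull_ev_bc (D.map f) P.v P.ξ).symm)
      ((pull_mm_bc M (D.map f) (c.w f) (ev (𝟙 M.X) P.v P.ξ)).trans P.cls')
    deg := by
      have e1 := ActBC.bcCompIso_hom_naturality (c.π.app j) (D.map f) (c.w f) P.v
      rw [← Iso.eq_comp_inv, Category.assoc] at e1
      rw [e1]
      exact hasDegSq_iso (ActBC.bcCompIso (c.π.app j) (D.map f) M.X (c.w f))
        (ActBC.bcCompIso (c.π.app j) (D.map f) P.At (c.w f)).symm _ P.deg }

/-- The polarisation class. -/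
theorem PolData.isPolCl (P : PolData M g d cl) [IsSchemeTheoreticallyDominant (c.π.app i)] [QuasiCompact (c.π.app i)]
    (hf : IsFinite P.v.left) (hfl : Flat P.v.left) (he : P.L = ev (𝟙 M.X) P.v P.ξ) :
    IsPolCl M.X d P.L := by
  have a1 := P.ab.smooth
  have a2 := P.ab.proper
  have a3 := P.ab.geomConnected
  have a4 : GeometricallyIntegral M.X.hom := K814.AbBasic.geometricallyIntegral M.X
  have b1 := P.abt.smooth
  have b2 := P.abt.proper
  have hm := P.mon
  obtain ⟨L', hL', hLa, e⟩ := P.amp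
  have hv : LocallyOfFinitePresentation P.v.left := by
    have : LocallyOfFinitePresentation (P.v.left ≫ P.At.hom) := by
      rw [Over.w]
      infer_instance
    exact Groth.Agent.Flat2E.Thick.locallyOfFinitePresentation_of_comp _ P.At.hom
  refine ⟨P.At, inferInstance, inferInstance, P.φ, P.ξ, P.v, P.dual, P.h1, P.h2, P.h3, ?_, ?_, he⟩
  · refine K513.PolLocus.isPolarization P.dual P.h1 P.h2 P.h3 P.v (fun a b => ?_) hL' hLa 2 (by norm_num) ?_
    · exact K513.PolSym.symm P.dual P.h1 P.h2 P.h3 P.v (by rw [← he]; exact P.hom_eq) a b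
    · rw [e, P.hom_eq, pow_two]
  · exact hasDegSq_of_dom (c.π.app i) P.v hf hfl hv P.deg

end data

end

end K250.AgLim
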