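import Groth.Agent.AgPol.K250.Pol
import Groth.Agent.AgPol.K814.DualNode

/-!
# Polarisation classes over a limit come from a stage

* `exists_cls_eq` : classes on models which agree at the limit agree at a later stage;
* `exists_pol` : a polarisation class of degree `d ^ 2` over the limit comes from one at a stage.
-/

set_option autoImplicit false
set_option backward.isDefEq.respectTransparency false
set_option backward.defeqAttrib.useBackward true
universe u

open CategoryTheory Limits MonoidalCategory CartesianMonoidalCategory AlgebraicGeometry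
open scoped MonObj

namespace K250.AgLim

open K533.PolBC K620.GMod K210.LimHom Groth.Agent.Ega43.LimitDescend Groth.Agent Groth.Agent.Sga3.H515
  Groth.Agent.Grpsch.PicGrp K540.Ag Groth.Agent.Fga.RigGrp K732.PicZero K732.Prim K732.Dual K732.CubeSec K814 K732.BC
  MumHom K117.Ag

noncomputable section

theorem iso_iff_pull {X Y Z : Scheme.{u}} (m : X ⟶ Y) (r : Y ⟶ Z) {L N : Z.Modules} (hL : PicF.IsInvertible L)
    (hN : PicF.IsInvertible N) :
    Nonempty ((Scheme.Modules.pullback m).obj ((Scheme.Modules.pullback r).obj L) ≅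
      (Scheme.Modules.pullback m).obj ((Scheme.Modules.pullback r).obj N)) ↔
      pull (m ≫ r) (mk L hL) = pull (m ≫ r) (mk N hN) := by
  have h1 : ∀ {L : Z.Modules} (hL : PicF.IsInvertible L), pull (m ≫ r) (mk L hL) =
      mk ((Scheme.Modules.pullback m).obj ((Scheme.Modules.pullback r).obj L))
        (Fdesc.LocGen.isInvertible_pullback _ (Fdesc.LocGen.isInvertible_pullback _ hL)) := by
    intro L hL
    rw [pull_comp, pull_mk, pull_mk]
  rw [h1, h1, mk_eq_iff]

variable {I : Type u} [SmallCategory I] {D : I ⥤ Scheme.{u}} {c : Cone D}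
variable [IsCofiltered I] (hc : IsLimit c) [∀ (i i' : I) (f : i ⟶ i'), IsAffineHom (D.map f)]
    [∀ i, CompactSpace (D.obj i)] [∀ i, QuasiSeparatedSpace (D.obj i)]

include hc

/-- Classes which agree at the limit agree at a stage. -/
theorem exists_cls_eq {A : Over c.pt} [GrpObj A] {i : I} (M : Mdl (c.π.app i) A) (x y : Pic M.X.left)
    (h : pull (mm M) x = pull (mm M) y) :
    ∃ (j : I) (f : j ⟶ i), pull (pullback.fst M.X.hom (D.map f)) x = pull (pullback.fst M.X.hom (D.map f)) y := by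
  obtain ⟨L, hL, rfl⟩ := exists_mk x
  obtain ⟨N, hN, rfl⟩ := exists_mk y
  have hw : ∀ j : Over i, (overCone c i).π.app j ≫ D.map j.hom = c.π.app i := fun j => c.w j.hom
  let s : Over.forget i ⋙ D ⟶ (Functor.const (Over i)).obj (D.obj i) :=
    { app := fun j => D.map j.hom
      naturality := fun j k φ => by
        dsimp
        rw [Category.comp_id, ← D.map_comp, Over.w] }
  let j₀ : Over i := Over.mk (𝟙 i)
  let r : pullback M.X.hom (s.app j₀) ⟶ M.X.left := pullback.fst M.X.hom (s.app j₀)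
  have w : mm M ≫ M.X.hom = (A.hom ≫ (overCone c i).π.app j₀) ≫ s.app j₀ := by
    rw [mm_hom, Category.assoc, hw]
  have e0 : pullback.lift (mm M) (A.hom ≫ (overCone c i).π.app j₀) w ≫ r = mm M := pullback.lift_fst _ _ _
  obtain ⟨k, a, w', e⟩ := Ega3B.LimInv.exists_iso_bc (D := Over.forget i ⋙ D) (s := s) (f := M.X.hom)
    (overCone c i) (t := c.π.app i) hw (gm_mm M).pb (isLimitOverCone c hc i) (j := j₀) w
    (M := (Scheme.Modules.pullback r).obj L) (N := (Scheme.Modules.pullback r).obj N)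
    (Fdesc.LocGen.isInvertible_pullback _ hL) (Fdesc.LocGen.isInvertible_pullback _ hN) (by
      rw [iso_iff_pull _ _ hL hN, e0, h])
  refine ⟨k.left, k.hom, ?_⟩
  have e1 := (iso_iff_pull _ _ hL hN).1 e
  have e2 : pullback.lift (pullback.fst M.X.hom (s.app k)) (pullback.snd M.X.hom (s.app k) ≫
      (Over.forget i ⋙ D).map a) w' ≫ r = pullback.fst M.X.hom (s.app k) := pullback.lift_fst _ _ _
  rw [e2] at e1
  exact e1

variable [∀ i, IsSchemeTheoreticallyDominant (c.π.app i)] [∀ i, QuasiCompact (c.π.app i)]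

theorem PolData.exists_prop {g d : ℕ} {A : Over c.pt} [GrpObj A] {i : I} {M : Mdl (c.π.app i) A} {cl : Pic A.left}
    (P : PolData M g d cl) {Q : MorphismProperty Scheme.{u}} [Q.RespectsIso] (hQ : DescendsLim Q)
    (h : Q ((Over.pullback (c.π.app i)).map P.v).left) : ∃ (j : I) (f : j ⟶ i), Q (P.mv f).v.left := by
  have b1 := P.abt.smooth
  have b2 := P.abt.proper
  exact exists_prop_map hc hQ P.v h

theorem exists_pol_of_data {g d : ℕ} {A : Over c.pt} [GrpObj A] {i i₀ : I} {M : Mdl (c.π.app i) A} {cl : Pic A.left}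
    (P : PolData M g d cl) (f₀ : i ⟶ i₀) :
    ∃ (j : I) (_ : j ⟶ i₀) (M' : Mdl (c.π.app j) A) (c' : Pic M'.X.left), AgPol.IsAbSch M'.X g ∧
      pull (η[M'.X] : 𝟙_ (Over (D.obj j)) ⟶ M'.X).left c' = 1 ∧ IsPolCl M'.X d c' ∧ pull (mm M') c' = cl := by
  obtain ⟨j₁, f₁, h₁⟩ := P.exists_prop hc K286.Desc.descendsLim_isFinite P.deg.1
  let P₁ := P.mv f₁
  obtain ⟨j₂, f₂, h₂⟩ := P₁.exists_prop hc LimSmooth.descendsLim_flat P₁.deg.2.1
  let P₂ := P₁.mv f₂
  obtain ⟨j₃, f₃, h₃⟩ := exists_cls_eq hc _ P₂.L (ev (𝟙 _) P₂.v P₂.ξ) (P₂.cls.trans P₂.cls'.symm)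
  let P₃ := P₂.mv f₃
  have i1 : IsFinite P₂.v.left := MorphismProperty.of_isPullback (P := @IsFinite) (isPullback_map (D.map f₂) P₁.v) h₁
  have i2 : IsFinite P₃.v.left := MorphismProperty.of_isPullback (P := @IsFinite) (isPullback_map (D.map f₃) P₂.v) i1
  have i3 : Flat P₃.v.left := MorphismProperty.of_isPullback (P := @Flat) (isPullback_map (D.map f₃) P₂.v) h₂
  have he : P₃.L = ev (𝟙 _) P₃.v P₃.ξ := h₃.trans (K533.PolClBC.pull_ev_bc (D.map f₃) P₂.v P₂.ξ)
  have hm := P₃.mon
  exact ⟨j₃, ((f₃ ≫ f₂) ≫ f₁) ≫ f₀, _, P₃.L, P₃.ab, by rw [he]; exact K513.PolSym.ev_rig P₃.h2 P₃.v, P₃.isPolCl i2 i3 he, P₃.cls⟩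

/-- **Polarisation classes over the limit come from a stage.** -/
theorem exists_pol {g d : ℕ} {A : Over c.pt} [GrpObj A] {i : I} [IsLocallyNoetherian (D.obj i)]
    (M : Mdl (c.π.app i) A) (hM : AgPol.IsAbSch M.X g) {L : M.X.left.Modules} (hL : PicF.IsInvertible L)
    (hLa : RelAmple.IsRelAmple M.X.hom L) (hpol : IsPolCl A d (pull (mm M) (mk L hL))) :
    ∃ (j : I) (_ : j ⟶ i) (M' : Mdl (c.π.app j) A) (c' : Pic M'.X.left), AgPol.IsAbSch M'.X g ∧
      pull (η[M'.X] : 𝟙_ (Over (D.obj j)) ⟶ M'.X).left c' = 1 ∧ IsPolCl M'.X d c' ∧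
      pull (mm M') c' = pull (mm M) (mk L hL) := by
  have a1 := hM.smooth
  have a2 := hM.proper
  have a3 := hM.geomConnected
  have a4 : GeometricallyIntegral M.X.hom := K814.AbBasic.geometricallyIntegral M.X
  obtain ⟨At, _, _, φ, hD, hAt⟩ := K814.DualNode.node (D.obj i) M.X g hM L hLa
  obtain ⟨ξ, h1, h2, h3⟩ := exists_poinc hD (bijective_XTproj M.X.hom)
  obtain ⟨j, f, v, hv, hvv, hcl, hdeg⟩ := exists_lam_stage hc M hM hAt hD h1 h2 h3 (mk L hL) hpol
  let P : PolData (M.mv f) g d (pull (mm M) (mk L hL)) :=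
    { At := Red.bc (D.map f) At
      grp := inferInstance
      comm := inferInstance
      φ := AgPol.bcDual (D.map f) M.X At φ
      ξ := bcXi (D.map f) M.X At ξ
      v := v
      L := pull (pullback.fst M.X.hom (D.map f)) (mk L hL)
      ab := isAbSch_bc (D.map f) hM
      abt := isAbSch_bc (D.map f) hAt
      dual := isDualAV_bc hD
      h1 := bcXi_mem_pz h1
      h2 := bcXi_mem_rg h2
      h3 := cm_bcXi_eq (D.map f) hD h1 h3
      mon := hv
      amp := by
        refine ⟨(Scheme.Modules.pullback (pullback.fst M.X.hom (D.map f))).obj L,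
          Fdesc.LocGen.isInvertible_pullback _ hL, Ega2.RelAmp.relAmple_baseChange M.X.hom (D.map f) L hLa, ?_⟩
        rw [pull_mk]
      hom_eq := (hom_bc hD (D.map f) (mk L hL)).symm.trans hvv
      cls := pull_mm_bc M (D.map f) (c.w f) (mk L hL)
      cls' := hcl
      deg := hdeg }
  exact exists_pol_of_data hc P f

end

end K250.AgLim
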