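import Groth.Agent.FlatMor.K249.FGLimit
import Groth.Agent.TateGlob.K828.LSys
import Groth.Agent.Models.WeilPts

/-!
# Affine schemes over a Noetherian affine scheme as dominant limits of Noetherian schemes

* `exists_system` : an affine `S`-scheme `T`, `S` affine Noetherian, is the limit of the spectra of the finitely
  generated `Γ(S)`-subalgebras of `Γ(T)`; these are Noetherian and `T` is scheme-theoretically dominant over them.
-/

set_option autoImplicit false

universe u

open CategoryTheory CategoryTheory.Limits AlgebraicGeometry Opposite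

namespace K250.AgLim.Sys

section ring

variable (R A : Type u) [CommRing R] [CommRing A] [Algebra R A]

open K249.FGLimit

/-- The diagram of finitely generated subalgebras, as algebras. -/
def underDiagram : FGSub R A ⥤ Under (CommRingCat.of R) where
  obj S := Under.mk (CommRingCat.ofHom (algebraMap R S.1))
  map {S T} h := Under.homMk (CommRingCat.ofHom (Subalgebra.inclusion (leOfHom h)).toRingHom) rfl
  map_id S := by ext x; rfl
  map_comp f g := by ext x; rfl

/-- The cocone with vertex `A`. -/
def underCocone : Cocone (underDiagram R A) where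
  pt := Under.mk (CommRingCat.ofHom (algebraMap R A))
  ι := { app := fun S => Under.homMk (CommRingCat.ofHom S.1.val.toRingHom) rfl
         naturality := fun S T h => by ext x; rfl }

end ring

theorem dominant_comp {X Y Z : Scheme.{u}} (f : X ⟶ Y) (g : Y ⟶ Z) (hf : IsSchemeTheoreticallyDominant f)
    (hg : IsSchemeTheoreticallyDominant g) : IsSchemeTheoreticallyDominant (f ≫ g) := inferInstance

/-- Every affine scheme over a Noetherian affine scheme is a limit of Noetherian affine schemes over which it is
scheme-theoretically dominant. -/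
theorem exists_system {S : Scheme.{u}} [IsAffine S] [IsNoetherian S] (T : Over S) [IsAffine T.left] :
    ∃ (I : Type u) (_ : SmallCategory I) (_ : IsCofiltered I) (D : I ⥤ Over S) (c : Cone D),
      Nonempty (IsLimit ((Over.forget S).mapCone c)) ∧ (∀ i, IsAffine (D.obj i).left) ∧
      (∀ i, IsNoetherian (D.obj i).left) ∧ (∀ i, IsSchemeTheoreticallyDominant (c.π.app i).left) ∧ c.pt = T := by
  let _ : Algebra Γ(S, ⊤) Γ(T.left, ⊤) := T.hom.appTop.hom.toAlgebra
  have hN : IsNoetherianRing Γ(S, ⊤) := IsLocallyNoetherian.component_noetherian ⟨⊤, isAffineOpen_top S⟩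
  let I := K249.FGLimit.FGSub Γ(S, ⊤) Γ(T.left, ⊤)
  let D' : Iᵒᵖ ⥤ Over S := (underDiagram Γ(S, ⊤) Γ(T.left, ⊤)).op ⋙ K828.LExt.toOver S
  let c' : Cone D' := (K828.LExt.toOver S).mapCone (underCocone Γ(S, ⊤) Γ(T.left, ⊤)).op
  have hc' : IsLimit ((Over.forget S).mapCone c') := K249.FGLimit.isLimitSpecCone Γ(S, ⊤) Γ(T.left, ⊤)
  -- the isomorphism with `T`
  let e1 : c'.pt ≅ T := Over.isoMk T.left.isoSpec.symm (by
    change T.left.isoSpec.inv ≫ T.hom = Spec.map T.hom.appTop ≫ S.isoSpec.inv
    rw [Scheme.isoSpec_inv_naturality])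
  refine ⟨Iᵒᵖ, inferInstance, inferInstance, D', c'.extend e1.inv, ⟨?_⟩, fun i => ?_, fun i => ?_, fun i => ?_, rfl⟩
  · exact hc'.ofIsoLimit (Cone.ext ((Over.forget S).mapIso e1) (fun i => by
      change (c'.π.app i).left = e1.hom.left ≫ (e1.inv ≫ c'.π.app i).left
      rw [← Over.comp_left, Iso.hom_inv_id_assoc]))
  · change IsAffine (Spec _)
    infer_instance
  · exact inferInstanceAs (IsNoetherian ((K249.FGLimit.specDiagram Γ(S, ⊤) Γ(T.left, ⊤)).obj i))
  · have h1 : IsIso e1.inv.left := inferInstanceAs (IsIso ((Over.forget S).map e1.inv))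
    have h2 : IsSchemeTheoreticallyDominant (Spec.map (CommRingCat.ofHom i.unop.1.val.toRingHom)) := by
      have : Fact (Function.Injective i.unop.1.val.toRingHom) := ⟨Subtype.val_injective⟩
      exact Groth.Agent.Models.WeilPts.schDominant_of_injective _
    have h3 : IsSchemeTheoreticallyDominant e1.inv.left := inferInstance
    exact dominant_comp _ _ h3 h2

end K250.AgLim.Sys
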